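import Mathlib.RingTheory.MvPolynomial.Homogeneous
import Mathlib.RingTheory.MvPolynomial.Ideal
import Mathlib.LinearAlgebra.Matrix.Adjugate
import Mathlib.LinearAlgebra.Matrix.NonsingularInverse
import Mathlib.LinearAlgebra.FiniteDimensional.Basic
import Mathlib.Tactic.LinearCombination

/-!
Complete intersections cut out by products of linear forms in general position: regularity, the
socle and its generator.
-/

universe u v

open MvPolynomial

namespace Groth.Agent.H66.Watanabe

noncomputable section

variable {K : Type u} [Field K] {n : ℕ} {H : Type v}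

/-- The linear form with given coefficients. -/
def lin : (Fin n → K) →ₗ[K] MvPolynomial (Fin n) K :=
  Fintype.linearCombination K (fun j => (X j : MvPolynomial (Fin n) K))

theorem lin_apply (v : Fin n → K) : lin v = ∑ j, v j • (X j : MvPolynomial (Fin n) K) :=
  Fintype.linearCombination_apply ..

theorem lin_single (j : Fin n) : lin (Pi.single j (1 : K)) = X j := by
  rw [lin_apply, Finset.sum_eq_single j] <;> simp +contextual [Pi.single_apply]

theorem isHomogeneous_lin (v : Fin n → K) : (lin v).IsHomogeneous 1 := by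
  rw [lin_apply]
  exact IsHomogeneous.sum _ _ _ fun j _ =>
    (mem_homogeneousSubmodule 1 _).1 (Submodule.smul_mem _ _ ((mem_homogeneousSubmodule 1 _).2 (isHomogeneous_X K j)))

variable (ℓ : Fin n → H → Fin n → K)

/-- The product of the forms of a slot. -/
def P (j : Fin n) (s : Finset H) : MvPolynomial (Fin n) K := ∏ h ∈ s, lin (ℓ j h)

theorem isHomogeneous_P (j : Fin n) (s : Finset H) : (P ℓ j s).IsHomogeneous s.card := by
  have h := IsHomogeneous.prod s (fun h => lin (ℓ j h)) (fun _ => 1) fun h _ => isHomogeneous_lin (ℓ j h)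
  simpa [P] using h

/-- The ideal of the products. -/
def I (T : Finset (Fin n)) (M : Fin n → Finset H) : Ideal (MvPolynomial (Fin n) K) :=
  Ideal.span ((fun j => P ℓ j (M j)) '' (T : Set (Fin n)))

variable {ℓ}

theorem I_congr {T : Finset (Fin n)} {M M' : Fin n → Finset H} (h : ∀ j ∈ T, M j = M' j) :
    I ℓ T M = I ℓ T M' :=
  congrArg Ideal.span (Set.image_congr fun j hj => by rw [h j hj])

theorem mem_I {T : Finset (Fin n)} {M : Fin n → Finset H} {j : Fin n} (hj : j ∈ T) :
    P ℓ j (M j) ∈ I ℓ T M := Ideal.subset_span ⟨j, hj, rfl⟩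

theorem mem_I_insert [DecidableEq (Fin n)] {T : Finset (Fin n)} {M : Fin n → Finset H} {i : Fin n}
    {y : MvPolynomial (Fin n) K} :
    y ∈ I ℓ (insert i T) M ↔ ∃ a, ∃ w ∈ I ℓ T M, a * P ℓ i (M i) + w = y := by
  rw [I, Finset.coe_insert, Set.image_insert_eq, Ideal.mem_span_insert]
  exact ⟨fun ⟨a, z, hz, e⟩ => ⟨a, z, hz, e.symm⟩, fun ⟨a, z, hz, e⟩ => ⟨a, z, hz, e.symm⟩⟩

theorem hom_mul {a f : MvPolynomial (Fin n) K} {e : ℕ} (hf : f.IsHomogeneous e) (d : ℕ) :
    homogeneousComponent d (a * f) = if e ≤ d then homogeneousComponent (d - e) a * f else 0 := by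
  conv_lhs => rw [← sum_homogeneousComponent a, Finset.sum_mul, map_sum]
  simp only [homogeneousComponent_of_mem ((homogeneousComponent_isHomogeneous _ a).mul hf)]
  by_cases hed : e ≤ d
  · rw [if_pos hed, Finset.sum_eq_single (d - e)]
    · rw [if_pos (by omega)]
    · intro i _ hi
      rw [if_neg (by omega)]
    · intro hi
      rw [homogeneousComponent_eq_zero _ _ (by simp at hi; omega)]
      simp
  · rw [if_neg hed]
    refine Finset.sum_eq_zero fun i _ => if_neg (by omega)

theorem comp_mem_I {T : Finset (Fin n)} {M : Fin n → Finset H} {y : MvPolynomial (Fin n) K}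
    (hy : y ∈ I ℓ T M) (d : ℕ) : homogeneousComponent d y ∈ I ℓ T M := by
  suffices h : ∀ a : MvPolynomial (Fin n) K, homogeneousComponent d (a * y) ∈ I ℓ T M by
    simpa using h 1
  induction hy using Submodule.span_induction with
  | mem x hx =>
    obtain ⟨j, hj, rfl⟩ := hx
    intro a
    rw [hom_mul (isHomogeneous_P ℓ j (M j))]
    split_ifs
    · exact Ideal.mul_mem_left _ _ (mem_I hj)
    · exact zero_mem _
  | zero => simp
  | add x y _ _ hx hy => intro a; rw [mul_add, map_add]; exact add_mem (hx a) (hy a)
  | smul r x _ hx => intro a; rw [smul_eq_mul, ← mul_assoc]; exact hx _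

variable (ℓ) in
/-- Every transversal consists of independent forms. -/
def Gen : Prop := ∀ c : Fin n → H, LinearIndependent K fun i => ℓ i (c i)

/-- A change of coordinates adapted to a transversal. -/
theorem exists_coord (hg : Gen ℓ) (c : Fin n → H) :
    ∃ e : MvPolynomial (Fin n) K ≃ₐ[K] MvPolynomial (Fin n) K, ∀ i, e (X i) = lin (ℓ i (c i)) := by
  classical
  let L : Matrix (Fin n) (Fin n) K := Matrix.of fun i j => ℓ i (c i) j
  have hu : IsUnit L := Matrix.linearIndependent_rows_iff_isUnit.1 (hg c)
  let f : Matrix (Fin n) (Fin n) K → (MvPolynomial (Fin n) K →ₐ[K] MvPolynomial (Fin n) K) :=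
    fun M => aeval fun i => lin (M i)
  have hf : ∀ M N, (f M).comp (f N) = f (N * M) := by
    intro M N
    refine MvPolynomial.algHom_ext fun i => ?_
    simp only [f, AlgHom.comp_apply, aeval_X, lin_apply, map_sum, map_smul, Finset.smul_sum, smul_smul,
      Matrix.mul_apply, Finset.sum_smul]
    exact Finset.sum_comm
  have hf1 : f 1 = AlgHom.id K _ := MvPolynomial.algHom_ext fun i => by
    simp only [f, aeval_X, AlgHom.id_apply]
    rw [show (1 : Matrix (Fin n) (Fin n) K) i = Pi.single i 1 from funext fun j => by
      simp [Matrix.one_apply, Pi.single_apply, eq_comm], lin_single]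
  refine ⟨AlgEquiv.ofAlgHom (f L) (f L⁻¹) ?_ ?_, fun i => ?_⟩
  · rw [hf, Matrix.nonsing_inv_mul _ ((Matrix.isUnit_iff_isUnit_det L).1 hu), hf1]
  · rw [hf, Matrix.mul_nonsing_inv _ ((Matrix.isUnit_iff_isUnit_det L).1 hu), hf1]
  · change f L (X i) = _
    simp only [f, aeval_X]
    rfl

theorem nzd_vars {T : Finset (Fin n)} {i : Fin n} (hi : i ∉ T) {y : MvPolynomial (Fin n) K}
    (h : X i * y ∈ Ideal.span (X '' (T : Set (Fin n)) : Set (MvPolynomial (Fin n) K))) :
    y ∈ Ideal.span (X '' (T : Set (Fin n)) : Set (MvPolynomial (Fin n) K)) := by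
  classical
  rw [mem_ideal_span_X_image] at h ⊢
  intro m hm
  obtain ⟨j, hj, hne⟩ := h (Finsupp.single i 1 + m) (by
    rw [mem_support_iff, coeff_X_mul]
    exact mem_support_iff.1 hm)
  refine ⟨j, hj, ?_⟩
  have : i ≠ j := fun e => hi (e ▸ hj)
  simpa [Finsupp.single_apply, this] using hne

/-- Each form is regular modulo the products in the other slots. -/
theorem nzd (hg : Gen ℓ) : ∀ (N : ℕ) (T : Finset (Fin n)) (M : Fin n → Finset H),
    ∑ j ∈ T, (M j).card = N → (∀ j ∈ T, (M j).Nonempty) → ∀ i, i ∉ T → ∀ (h : H)
      (y : MvPolynomial (Fin n) K), lin (ℓ i h) * y ∈ I ℓ T M → y ∈ I ℓ T M := by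
  classical
  intro N
  induction N using Nat.strong_induction_on with
  | _ N ih =>
    intro T M hN hne i hi h y hy
    by_cases hs : ∀ j ∈ T, (M j).card = 1
    · have hM : ∀ j ∈ T, ∃ c, M j = {c} := fun j hj => Finset.card_eq_one.1 (hs j hj)
      choose c hc using hM
      let c' : Fin n → H := fun j => if hj : j ∈ T then c j hj else h
      obtain ⟨e, he⟩ := exists_coord hg c'
      have hI : I ℓ T M = (Ideal.span (X '' (T : Set (Fin n)))).map e.toAlgHom := by
        rw [Ideal.map_span, Set.image_image]
        refine congrArg Ideal.span (Set.image_congr fun j hj => ?_)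
        change _ = e (X j)
        rw [he, P, hc j hj, Finset.prod_singleton]
        simp [c', Finset.mem_coe.1 hj]
      have hh : lin (ℓ i h) = e (X i) := by simp [he, c', hi]
      obtain ⟨z, rfl⟩ := e.surjective y
      rw [hI] at hy ⊢
      rw [hh, ← map_mul] at hy
      obtain ⟨w, hw, hwe⟩ := (Ideal.mem_map_iff_of_surjective e.toAlgHom e.surjective).1 hy
      rw [show w = X i * z from e.injective hwe] at hw
      exact Ideal.mem_map_of_mem e.toAlgHom (nzd_vars hi hw)
    · push Not at hs
      obtain ⟨j, hj, hj1⟩ := hs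
      obtain ⟨a, ha⟩ := hne j hj
      let B := (M j).erase a
      have hB : B.Nonempty := Finset.card_pos.1 (by
        rw [Finset.card_erase_of_mem ha]
        have := (hne j hj).card_pos
        omega)
      have hPj : P ℓ j (M j) = lin (ℓ j a) * P ℓ j B := (Finset.mul_prod_erase (M j) _ ha).symm
      have hcard : ∀ (s : Finset H), ∑ l ∈ T, (Function.update M j s l).card =
          s.card + ∑ l ∈ T.erase j, (M l).card := by
        intro s
        rw [← Finset.add_sum_erase _ _ hj, Function.update_self]
        refine congrArg _ (Finset.sum_congr rfl fun l hl => ?_)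
        rw [Function.update_of_ne (Finset.ne_of_mem_erase hl)]
      have hN' : N = (M j).card + ∑ l ∈ T.erase j, (M l).card := by
        rw [← hN, ← Finset.add_sum_erase _ _ hj]
      have hBc : B.card + 1 = (M j).card := Finset.card_erase_add_one ha
      have hne' : ∀ s : Finset H, s.Nonempty → ∀ l ∈ T, (Function.update M j s l).Nonempty := by
        intro s hs l hl
        by_cases e : l = j
        · subst e; rwa [Function.update_self]
        · rw [Function.update_of_ne e]; exact hne l hl
      have hins : ∀ (s : Finset H) (y : MvPolynomial (Fin n) K), y ∈ I ℓ T (Function.update M j s) ↔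
          ∃ r, ∃ w ∈ I ℓ (T.erase j) M, r * P ℓ j s + w = y := by
        intro s y
        conv_lhs => rw [← Finset.insert_erase hj]
        rw [mem_I_insert, Function.update_self,
          I_congr (M' := M) fun l hl => Function.update_of_ne (Finset.ne_of_mem_erase hl) _ _]
      have hy' : lin (ℓ i h) * y ∈ I ℓ T (Function.update M j (M j)) := by rwa [Function.update_eq_self]
      obtain ⟨z, w, hw, hwy⟩ := (hins _ _).1 hy'
      have h1 : lin (ℓ i h) * y ∈ I ℓ T (Function.update M j {a}) :=
        (hins _ _).2 ⟨z * P ℓ j B, w, hw, by rw [← hwy, hPj]; simp [P]; ring⟩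
      obtain ⟨y1, w1, hw1, hy1⟩ := (hins _ _).1 (ih _ (by
        rw [hN', hcard, Finset.card_singleton]
        have := hB.card_pos
        omega) T _ rfl (hne' _ (Finset.singleton_nonempty a)) i hi h y h1)
      rw [P, Finset.prod_singleton] at hy1
      have h2 : lin (ℓ j a) * (lin (ℓ i h) * y1 - z * P ℓ j B) ∈ I ℓ (T.erase j) M := by
        rw [show lin (ℓ j a) * (lin (ℓ i h) * y1 - z * P ℓ j B) = w - lin (ℓ i h) * w1 by
          rw [hPj] at hwy
          linear_combination lin (ℓ i h) * hy1 - hwy]
        exact sub_mem hw (Ideal.mul_mem_left _ _ hw1)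
      have h3 := ih _ (by rw [hN']; have := (hne j hj).card_pos; omega) (T.erase j) M rfl
        (fun l hl => hne l (Finset.mem_of_mem_erase hl)) j (Finset.notMem_erase j T) a _ h2
      have h4 : lin (ℓ i h) * y1 ∈ I ℓ T (Function.update M j B) :=
        (hins _ _).2 ⟨z, _, h3, by ring⟩
      obtain ⟨r, w2, hw2, hy2⟩ := (hins _ _).1 (ih _ (by rw [hN', hcard]; omega) T _ rfl (hne' _ hB) i hi h y1 h4)
      rw [← Function.update_eq_self j M]
      refine (hins _ _).2 ⟨r, lin (ℓ j a) * w2 + w1, add_mem (Ideal.mul_mem_left _ _ hw2) hw1, ?_⟩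
      rw [hPj]
      linear_combination lin (ℓ j a) * hy2 + hy1

theorem nzd_lin (hg : Gen ℓ) {T : Finset (Fin n)} {M : Fin n → Finset H} (hne : ∀ j ∈ T, (M j).Nonempty)
    {i : Fin n} (hi : i ∉ T) (h : H) {y : MvPolynomial (Fin n) K} (hy : lin (ℓ i h) * y ∈ I ℓ T M) :
    y ∈ I ℓ T M :=
  nzd hg _ T M rfl hne i hi h y hy

theorem nzd_P (hg : Gen ℓ) {T : Finset (Fin n)} {M : Fin n → Finset H} (hne : ∀ j ∈ T, (M j).Nonempty)
    {i : Fin n} (hi : i ∉ T) (s : Finset H) : ∀ {y : MvPolynomial (Fin n) K},
    P ℓ i s * y ∈ I ℓ T M → y ∈ I ℓ T M := by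
  classical
  induction s using Finset.induction_on with
  | empty => intro y hy; simpa [P] using hy
  | insert a s ha ih =>
    intro y hy
    rw [P, Finset.prod_insert ha, mul_assoc] at hy
    exact ih (nzd_lin hg hne hi a hy)

section Socle

variable [DecidableEq H]

variable (ℓ) in
/-- The complementary product of a transversal. -/
def E (M : Fin n → Finset H) (c : Fin n → H) : MvPolynomial (Fin n) K :=
  ∏ j, P ℓ j ((M j).erase (c j))

variable (ℓ) in
/-- The determinant of a transversal. -/
def D (c : Fin n → H) : K := (Matrix.of fun i => ℓ i (c i)).det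

theorem D_ne_zero (hg : Gen ℓ) (c : Fin n → H) : D ℓ c ≠ 0 :=
  ((Matrix.isUnit_iff_isUnit_det _).1 (Matrix.linearIndependent_rows_iff_isUnit.1 (hg c))).ne_zero

theorem isHomogeneous_E (M : Fin n → Finset H) (c : Fin n → H) (hc : ∀ j, c j ∈ M j) :
    (E ℓ M c).IsHomogeneous (∑ j, ((M j).card - 1)) :=
  IsHomogeneous.prod Finset.univ _ _ fun j _ => by
    simpa [Finset.card_erase_of_mem (hc j)] using isHomogeneous_P ℓ j ((M j).erase (c j))

theorem exchange_step (M : Fin n → Finset H) (c : Fin n → H) (hc : ∀ j, c j ∈ M j) (i : Fin n) (a : H)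
    (ha : a ∈ M i) :
    D ℓ (Function.update c i a) • E ℓ M (Function.update c i a) - D ℓ c • E ℓ M c ∈
      I ℓ Finset.univ M := by
  classical
  by_cases hac : a = c i
  · subst hac
    simp
  let L : Matrix (Fin n) (Fin n) K := Matrix.of fun i => ℓ i (c i)
  let v := ℓ i a
  have hcr : L.det • lin v = ∑ j, (L.updateRow j v).det • lin (ℓ j (c j)) := by
    have h := congrArg (lin (K := K) (n := n)) (Matrix.mulVec_cramer L.transpose v)
    rw [map_smul, Matrix.det_transpose, Matrix.mulVec_transpose] at h
    rw [← h, show Matrix.vecMul (Matrix.cramer L.transpose v) L =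
      ∑ j, (L.updateRow j v).det • ℓ j (c j) from funext fun l => by
        simp [Matrix.vecMul, dotProduct, Matrix.cramer_transpose_apply, L, Finset.sum_apply], map_sum]
    simp only [map_smul]
  have hD : D ℓ (Function.update c i a) = (L.updateRow i v).det := by
    rw [D]
    congr 1
    ext l m
    by_cases e : l = i
    · subst e; simp [v]
    · simp [Matrix.updateRow_ne e, Function.update_of_ne e, L]
  have hDc : D ℓ c = L.det := rfl
  let Q := ∏ j ∈ Finset.univ.erase i, P ℓ j ((M j).erase (c j))
  let W := P ℓ i (((M i).erase (c i)).erase a)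
  have hE1 : E ℓ M c = lin v * W * Q := by
    rw [E, ← Finset.mul_prod_erase _ _ (Finset.mem_univ i)]
    congr 1
    exact (Finset.mul_prod_erase _ _ (Finset.mem_erase.2 ⟨hac, ha⟩)).symm
  have hE2 : E ℓ M (Function.update c i a) = lin (ℓ i (c i)) * W * Q := by
    rw [E, ← Finset.mul_prod_erase _ _ (Finset.mem_univ i), Function.update_self]
    congr 1
    · change _ = _ * P ℓ i (((M i).erase (c i)).erase a)
      rw [Finset.erase_right_comm]
      exact (Finset.mul_prod_erase _ _ (Finset.mem_erase.2 ⟨Ne.symm hac, hc i⟩)).symm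
    · exact Finset.prod_congr rfl fun j hj => by rw [Function.update_of_ne (Finset.ne_of_mem_erase hj)]
  rw [hE1, hE2, hD, hDc,
    show (L.updateRow i v).det • (lin (ℓ i (c i)) * W * Q) - L.det • (lin v * W * Q) =
      -((∑ j ∈ Finset.univ.erase i, (L.updateRow j v).det • lin (ℓ j (c j))) * (W * Q)) by
    rw [← Finset.add_sum_erase _ _ (Finset.mem_univ i)] at hcr
    simp only [MvPolynomial.smul_eq_C_mul] at hcr ⊢
    linear_combination (-(W * Q)) * hcr]
  refine neg_mem ?_
  rw [Finset.sum_mul]
  refine Ideal.sum_mem _ fun j hj => ?_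
  refine Ideal.mem_of_dvd _ ?_ (mem_I (M := M) (Finset.mem_univ j))
  rw [MvPolynomial.smul_eq_C_mul, P, ← Finset.mul_prod_erase _ _ (hc j)]
  obtain ⟨r, hr⟩ : P ℓ j ((M j).erase (c j)) ∣ W * Q := (Finset.dvd_prod_of_mem _ hj).mul_left W
  exact ⟨C (L.updateRow j v).det * r, by rw [hr]; simp only [P]; ring⟩

theorem exchange (M : Fin n → Finset H) (c c' : Fin n → H) (hc : ∀ j, c j ∈ M j) (hc' : ∀ j, c' j ∈ M j) :
    D ℓ c' • E ℓ M c' - D ℓ c • E ℓ M c ∈ I ℓ Finset.univ M := by
  classical
  suffices h : ∀ T : Finset (Fin n), D ℓ (T.piecewise c' c) • E ℓ M (T.piecewise c' c) - D ℓ c • E ℓ M c ∈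
      I ℓ Finset.univ M by simpa using h Finset.univ
  intro T
  induction T using Finset.induction_on with
  | empty => simp
  | insert i T hi ih =>
    rw [Finset.piecewise_insert]
    have hm : ∀ j, T.piecewise c' c j ∈ M j := fun j => by
      by_cases e : j ∈ T <;> simp [e, hc, hc']
    have := add_mem (exchange_step (ℓ := ℓ) M _ hm i (c' i) (hc' i)) ih
    simpa using this

variable (ℓ) in
/-- The properties of the socle. -/
structure Socle (M : Fin n → Finset H) : Prop where
  high : ∀ (y : MvPolynomial (Fin n) K) (d : ℕ), y.IsHomogeneous d → (∑ j, ((M j).card - 1)) < d →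
    y ∈ I ℓ Finset.univ M
  soc : ∀ c : Fin n → H, (∀ j, c j ∈ M j) → ∀ y, (∀ l, X l * y ∈ I ℓ Finset.univ M) →
    ∃ κ : K, y - κ • E ℓ M c ∈ I ℓ Finset.univ M
  ne : ∀ c : Fin n → H, (∀ j, c j ∈ M j) → E ℓ M c ∉ I ℓ Finset.univ M

theorem socle (hg : Gen ℓ) : ∀ (N : ℕ) (M : Fin n → Finset H), ∑ j, (M j).card = N →
    (∀ j, (M j).Nonempty) → Socle ℓ M := by
  classical
  intro N
  induction N using Nat.strong_induction_on with
  | _ N ih =>
    intro M hN hne
    by_cases hs : ∀ j, (M j).card = 1
    · choose c₀ hc₀ using fun j => Finset.card_eq_one.1 (hs j)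
      obtain ⟨e, he⟩ := exists_coord hg c₀
      have hI : I ℓ Finset.univ M = (idealOfVars (Fin n) K).map e.toAlgHom := by
        rw [idealOfVars, I, Ideal.map_span, ← Set.range_comp, Finset.coe_univ, Set.image_univ]
        refine congrArg Ideal.span (congrArg Set.range (funext fun j => ?_))
        change _ = e (X j)
        rw [he, P, hc₀ j, Finset.prod_singleton]
      have hker : ∀ y : MvPolynomial (Fin n) K, y ∈ idealOfVars (Fin n) K ↔ constantCoeff y = 0 := fun y => by
        rw [← pow_one (idealOfVars (Fin n) K), mem_pow_idealOfVars_iff']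
        constructor
        · intro h; exact h 0 (by simp)
        · intro h x hx
          rwa [show x = 0 from (Finsupp.degree_eq_zero_iff x).1 (by omega)]
      have hcoef : ∀ y, constantCoeff (e y) = constantCoeff y := by
        intro y
        induction y using MvPolynomial.induction_on with
        | C a => rw [← algebraMap_eq, AlgEquiv.commutes]
        | add p q hp hq => rw [map_add, map_add, map_add, hp, hq]
        | mul_X p i hp =>
          rw [map_mul, map_mul, map_mul, he, constantCoeff_X, mul_zero, lin_apply]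
          simp [constantCoeff_X]
      have hmem : ∀ y, y ∈ I ℓ Finset.univ M ↔ constantCoeff y = 0 := by
        intro y
        obtain ⟨z, rfl⟩ := e.surjective y
        rw [hI, hcoef]
        constructor
        · intro h
          obtain ⟨w, hw, hwe⟩ := (Ideal.mem_map_iff_of_surjective e.toAlgHom e.surjective).1 h
          rw [← e.injective hwe]
          exact (hker w).1 hw
        · intro h
          exact Ideal.mem_map_of_mem e.toAlgHom ((hker z).2 h)
      have hE : ∀ c : Fin n → H, (∀ j, c j ∈ M j) → E ℓ M c = 1 := by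
        intro c hc
        refine Finset.prod_eq_one fun j _ => ?_
        have := hc j
        rw [hc₀ j, Finset.mem_singleton] at this
        simp [P, hc₀ j, this]
      refine ⟨fun y d hy hd => (hmem y).2 ?_, fun c hc y _ => ⟨constantCoeff y, (hmem _).2 ?_⟩,
        fun c hc h => ?_⟩
      · exact hy.coeff_eq_zero (by simp; omega)
      · rw [hE c hc]; simp [MvPolynomial.smul_eq_C_mul]
      · rw [hmem, hE c hc] at h
        simp at h
    · push Not at hs
      obtain ⟨i, hi1⟩ := hs
      have hMi : 2 ≤ (M i).card := by have := (hne i).card_pos; omega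
      have hins : ∀ (s : Finset H) (y : MvPolynomial (Fin n) K), y ∈ I ℓ Finset.univ (Function.update M i s) ↔
          ∃ r, ∃ w ∈ I ℓ (Finset.univ.erase i) M, r * P ℓ i s + w = y := by
        intro s y
        conv_lhs => rw [← Finset.insert_erase (Finset.mem_univ i)]
        rw [mem_I_insert, Function.update_self,
          I_congr (M' := M) fun l hl => Function.update_of_ne (Finset.ne_of_mem_erase hl) _ _]
      have hins' : ∀ y : MvPolynomial (Fin n) K, y ∈ I ℓ Finset.univ M ↔
          ∃ r, ∃ w ∈ I ℓ (Finset.univ.erase i) M, r * P ℓ i (M i) + w = y := fun y => by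
        have := hins (M i) y
        rwa [Function.update_eq_self] at this
      have hnz : ∀ (s : Finset H) {y : MvPolynomial (Fin n) K}, P ℓ i s * y ∈ I ℓ (Finset.univ.erase i) M →
          y ∈ I ℓ (Finset.univ.erase i) M :=
        fun s _ => nzd_P hg (fun j _ => hne j) (Finset.notMem_erase i _) s
      have hP : ∀ a ∈ M i, P ℓ i (M i) = lin (ℓ i a) * P ℓ i ((M i).erase a) :=
        fun a ha => (Finset.mul_prod_erase (M i) _ ha).symm
      have hsum : ∀ (f : Finset H → ℕ) (s : Finset H), ∑ j, f (Function.update M i s j) =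
          f s + ∑ j ∈ Finset.univ.erase i, f (M j) := by
        intro f s
        rw [← Finset.add_sum_erase _ _ (Finset.mem_univ i), Function.update_self]
        refine congrArg _ (Finset.sum_congr rfl fun l hl => ?_)
        rw [Function.update_of_ne (Finset.ne_of_mem_erase hl)]
      have hsum' : ∀ f : Finset H → ℕ, ∑ j, f (M j) = f (M i) + ∑ j ∈ Finset.univ.erase i, f (M j) :=
        fun f => (Finset.add_sum_erase _ (fun j => f (M j)) (Finset.mem_univ i)).symm
      have hsoc : ∀ s : Finset H, s.Nonempty → s.card < (M i).card → Socle ℓ (Function.update M i s) := by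
        intro s hs hlt
        refine ih _ ?_ _ rfl (fun j => ?_)
        · rw [← hN, hsum (fun t => t.card), hsum' fun t => t.card]; omega
        · by_cases e : j = i
          · subst e; rwa [Function.update_self]
          · rw [Function.update_of_ne e]; exact hne j
      have hBne : ∀ a ∈ M i, ((M i).erase a).Nonempty := fun a ha => Finset.card_pos.1 (by
        rw [Finset.card_erase_of_mem ha]; omega)
      have hEc : ∀ (c : Fin n → H) (s : Finset H) (b : H), E ℓ (Function.update M i s) (Function.update c i b) =
          P ℓ i (s.erase b) * ∏ j ∈ Finset.univ.erase i, P ℓ j ((M j).erase (c j)) := by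
        intro c s b
        rw [E, ← Finset.mul_prod_erase _ _ (Finset.mem_univ i), Function.update_self, Function.update_self]
        refine congrArg _ (Finset.prod_congr rfl fun j hj => ?_)
        rw [Function.update_of_ne (Finset.ne_of_mem_erase hj), Function.update_of_ne (Finset.ne_of_mem_erase hj)]
      refine ⟨fun y d hy hd => ?_, fun c hc y hy => ?_, fun c hc h => ?_⟩
      · obtain ⟨a, ha⟩ := hne i
        have hca : ((M i).erase a).card + 1 = (M i).card := Finset.card_erase_add_one ha
        rw [hsum' fun t => t.card - 1] at hd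
        obtain ⟨y1, w, hw, hy1⟩ := (hins _ _).1 ((hsoc {a} (Finset.singleton_nonempty a) (by simp; omega)).high y d hy
          (by rw [hsum (fun t => t.card - 1)]; simp; omega))
        rw [P, Finset.prod_singleton] at hy1
        have hy2 : y = homogeneousComponent (d - 1) y1 * lin (ℓ i a) + homogeneousComponent d w := by
          conv_lhs => rw [← homogeneousComponent_of_mem hy |>.trans (if_pos rfl), ← hy1]
          rw [map_add, hom_mul (isHomogeneous_lin (ℓ i a)), if_pos (by omega)]
        obtain ⟨r, w2, hw2, hr⟩ := (hins _ _).1 ((hsoc _ (hBne a ha) (by omega)).high _ _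
          (homogeneousComponent_isHomogeneous (d - 1) y1) (by rw [hsum (fun t => t.card - 1)]; omega))
        refine (hins' y).2 ⟨r, w2 * lin (ℓ i a) + homogeneousComponent d w,
          add_mem (Ideal.mul_mem_right _ _ hw2) (comp_mem_I hw d), ?_⟩
        rw [hy2, hP a ha, ← hr]
        ring
      · obtain ⟨a, ha⟩ := hne i
        have hlin : lin (ℓ i a) * y ∈ I ℓ Finset.univ M := by
          rw [lin_apply, Finset.sum_mul]
          refine Ideal.sum_mem _ fun l _ => ?_
          rw [smul_mul_assoc]
          exact Submodule.smul_of_tower_mem _ _ (hy l)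
        obtain ⟨z, w, hw, hz⟩ := (hins' _).1 hlin
        have h1 : y - z * P ℓ i ((M i).erase a) ∈ I ℓ (Finset.univ.erase i) M := by
          refine hnz {a} ?_
          rw [P, Finset.prod_singleton, show lin (ℓ i a) * (y - z * P ℓ i ((M i).erase a)) = w by
            rw [hP a ha] at hz
            linear_combination -hz]
          exact hw
        have hz2 : ∀ l, X l * z ∈ I ℓ Finset.univ (Function.update M i {a}) := by
          intro l
          obtain ⟨r, w', hw', hr⟩ := (hins' _).1 (hy l)
          refine (hins _ _).2 ⟨r, X l * z - r * lin (ℓ i a), hnz ((M i).erase a) ?_, ?_⟩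
          · rw [show P ℓ i ((M i).erase a) * (X l * z - r * lin (ℓ i a)) =
              w' - X l * (y - z * P ℓ i ((M i).erase a)) by
              rw [hP a ha] at hr
              linear_combination -hr]
            exact sub_mem hw' (Ideal.mul_mem_left _ _ h1)
          · rw [P, Finset.prod_singleton]; ring
        let c' := Function.update c i a
        have hc' : ∀ j, c' j ∈ M j := fun j => by
          by_cases e : j = i
          · subst e; simpa [c'] using ha
          · simpa [c', Function.update_of_ne e] using hc j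
        obtain ⟨κ, hκ⟩ := (hsoc {a} (Finset.singleton_nonempty a) (by simp; omega)).soc c' (fun j => by
          by_cases e : j = i
          · subst e; simp [c']
          · rw [Function.update_of_ne e]; exact hc' j) z hz2
        rw [hEc, Finset.erase_singleton, show P ℓ i ∅ = 1 from Finset.prod_empty, one_mul] at hκ
        have hE' : E ℓ M c' = P ℓ i ((M i).erase a) * ∏ j ∈ Finset.univ.erase i, P ℓ j ((M j).erase (c j)) := by
          have := hEc c (M i) a
          rwa [Function.update_eq_self] at this
        have h2 : y - κ • E ℓ M c' ∈ I ℓ Finset.univ M := by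
          obtain ⟨r, w', hw', hr⟩ := (hins _ _).1 hκ
          rw [P, Finset.prod_singleton] at hr
          refine (hins' _).2 ⟨r, w' * P ℓ i ((M i).erase a) + (y - z * P ℓ i ((M i).erase a)),
            add_mem (Ideal.mul_mem_right _ _ hw') h1, ?_⟩
          rw [hP a ha, hE', MvPolynomial.smul_eq_C_mul]
          rw [MvPolynomial.smul_eq_C_mul] at hr
          linear_combination P ℓ i ((M i).erase a) * hr
        refine ⟨κ * (D ℓ c / D ℓ c'), ?_⟩
        have h3 : (κ / D ℓ c') • (D ℓ c • E ℓ M c - D ℓ c' • E ℓ M c') ∈ I ℓ Finset.univ M :=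
          Submodule.smul_of_tower_mem _ _ (exchange M c' c hc' hc)
        rw [smul_sub, smul_smul, smul_smul, div_mul_cancel₀ _ (D_ne_zero hg c'), div_mul_eq_mul_div,
          ← mul_div_assoc'] at h3
        have := sub_mem h2 h3
        rwa [sub_sub, add_sub_cancel] at this
      · obtain ⟨a, ha, hac⟩ := Finset.exists_mem_ne (show 1 < (M i).card by omega) (c i)
        have hci : c i ∈ (M i).erase a := Finset.mem_erase.2 ⟨Ne.symm hac, hc i⟩
        refine (hsoc _ (hBne a ha) (Finset.card_erase_lt_of_mem ha)).ne c (fun j => ?_) ?_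
        · by_cases e : j = i
          · subst e; simpa using hci
          · rw [Function.update_of_ne e]; exact hc j
        have hE1 : E ℓ M c = lin (ℓ i a) * E ℓ (Function.update M i ((M i).erase a)) c := by
          have e1 := hEc c ((M i).erase a) (c i)
          have e2 := hEc c (M i) (c i)
          rw [Function.update_eq_self] at e1 e2
          rw [Function.update_eq_self] at e2
          rw [e2, e1, ← mul_assoc, Finset.erase_right_comm]
          congr 1
          exact (Finset.mul_prod_erase _ _ (Finset.mem_erase.2 ⟨hac, ha⟩)).symm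
        obtain ⟨z, w, hw, hz⟩ := (hins' _).1 h
        refine (hins _ _).2 ⟨z, E ℓ (Function.update M i ((M i).erase a)) c - z * P ℓ i ((M i).erase a), hnz {a} ?_, by ring⟩
        rw [P, Finset.prod_singleton, show lin (ℓ i a) * (E ℓ (Function.update M i ((M i).erase a)) c -
            z * P ℓ i ((M i).erase a)) = w by
          rw [hP a ha, hE1] at hz
          linear_combination -hz]
        exact hw

end Socle

end

end Groth.Agent.H66.Watanabe
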