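import Groth.Agent.H66.Watanabe.Core
import Mathlib.LinearAlgebra.Span.Basic

/-!
Deformations of the homogeneous complete intersection and the top degree functional.
-/

universe u v

open MvPolynomial

namespace Groth.Agent.H66.Watanabe

noncomputable section

variable {K : Type u} [Field K] {n : ℕ} {H : Type v} [Fintype H] [Nonempty H]
variable (ℓ : Fin n → H → Fin n → K) (κ : Fin n → K)

/-- The full slots. -/
def full : Fin n → Finset H := fun _ => Finset.univ

/-- The deformed products. -/
def F (j : Fin n) : MvPolynomial (Fin n) K := P ℓ j Finset.univ - C (κ j)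

/-- The deformed ideal. -/
def J (T : Finset (Fin n)) : Ideal (MvPolynomial (Fin n) K) := Ideal.span (F ℓ κ '' (T : Set (Fin n)))

/-- The top degree. -/
def top : ℕ := n * (Fintype.card H - 1)

variable {ℓ κ}

theorem F_mem {T : Finset (Fin n)} {j : Fin n} (hj : j ∈ T) : F ℓ κ j ∈ J ℓ κ T := Ideal.subset_span ⟨j, hj, rfl⟩

theorem mem_J_insert {T : Finset (Fin n)} {i : Fin n} {y : MvPolynomial (Fin n) K} :
    y ∈ J ℓ κ (insert i T) ↔ ∃ a, ∃ z ∈ J ℓ κ T, a * F ℓ κ i + z = y := by
  classical
  rw [J, Finset.coe_insert, Set.image_insert_eq, Ideal.mem_span_insert]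
  exact ⟨fun ⟨a, z, hz, e⟩ => ⟨a, z, hz, e.symm⟩, fun ⟨a, z, hz, e⟩ => ⟨a, z, hz, e.symm⟩⟩

theorem totalDegree_F_le (j : Fin n) : (F ℓ κ j).totalDegree ≤ Fintype.card H := by
  refine (totalDegree_sub _ _).trans (max_le ?_ (by simp))
  simpa using (isHomogeneous_P ℓ j (Finset.univ : Finset H)).totalDegree_le

theorem comp_eq_zero {p : MvPolynomial (Fin n) K} {d : ℕ} (h : p.totalDegree < d) :
    homogeneousComponent d p = 0 := homogeneousComponent_eq_zero _ _ h

theorem comp_hom {p : MvPolynomial (Fin n) K} {d : ℕ} (h : p.IsHomogeneous d) :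
    homogeneousComponent d p = p := (homogeneousComponent_of_mem h).trans (if_pos rfl)

theorem totalDegree_le_pred {p : MvPolynomial (Fin n) K} {e : ℕ} (h : p.totalDegree ≤ e + 1)
    (h0 : homogeneousComponent (e + 1) p = 0) : p.totalDegree ≤ e := by
  refine Finset.sup_le fun d hd => ?_
  have h1 : (d.sum fun _ e => e) ≤ e + 1 := (le_totalDegree hd).trans h
  by_contra hlt
  have h2 : d.degree = e + 1 := by
    have : (d.sum fun _ e => e) = d.degree := rfl
    omega
  have h3 := congrArg (fun q => coeff d q) h0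
  simp only [coeff_homogeneousComponent, h2, if_true, coeff_zero] at h3
  exact mem_support_iff.1 hd h3

theorem eq_zero_of_deg_zero {p : MvPolynomial (Fin n) K} (h : p.totalDegree = 0)
    (h0 : homogeneousComponent 0 p = 0) : p = 0 := by
  rw [← sum_homogeneousComponent p, h]
  simp [h0]

/-- A homogeneous element of the top ideal lifts to the deformed ideal. -/
theorem lift_mem {T : Finset (Fin n)} {z : MvPolynomial (Fin n) K} (hz : z ∈ I ℓ T (full (H := H))) (d : ℕ) :
    ∃ w ∈ J ℓ κ T, w.totalDegree ≤ d ∧ homogeneousComponent d w = homogeneousComponent d z := by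
  suffices h : ∀ a : MvPolynomial (Fin n) K, ∃ w ∈ J ℓ κ T, w.totalDegree ≤ d ∧
      homogeneousComponent d w = homogeneousComponent d (a * z) by simpa using h 1
  induction hz using Submodule.span_induction with
  | mem x hx =>
    obtain ⟨j, hj, rfl⟩ := hx
    intro a
    change ∃ w ∈ J ℓ κ T, _ ∧ _ = homogeneousComponent d (a * P ℓ j Finset.univ)
    have hN : (P ℓ j (Finset.univ : Finset H)).IsHomogeneous (Fintype.card H) := isHomogeneous_P ℓ j _
    have hpos : 0 < Fintype.card H := Fintype.card_pos
    rw [hom_mul hN]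
    split_ifs with hd
    · refine ⟨homogeneousComponent (d - Fintype.card H) a * F ℓ κ j,
        Ideal.mul_mem_left _ _ (F_mem hj), ?_, ?_⟩
      · refine (totalDegree_mul _ _).trans ?_
        have := (homogeneousComponent_isHomogeneous (d - Fintype.card H) a).totalDegree_le
        have := totalDegree_F_le (ℓ := ℓ) (κ := κ) j
        omega
      · rw [F, mul_sub, map_sub, hom_mul hN, if_pos hd, comp_hom (homogeneousComponent_isHomogeneous _ a),
          mul_comm _ (C (κ j)), homogeneousComponent_C_mul,
          comp_eq_zero (p := homogeneousComponent (d - Fintype.card H) a) (d := d), mul_zero, sub_zero]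
        have := (homogeneousComponent_isHomogeneous (d - Fintype.card H) a).totalDegree_le
        omega
    · exact ⟨0, zero_mem _, by simp, by simp⟩
  | zero => intro a; exact ⟨0, zero_mem _, by simp, by simp⟩
  | add x y _ _ hx hy =>
    intro a
    obtain ⟨u, hu, hu1, hu2⟩ := hx a
    obtain ⟨v, hv, hv1, hv2⟩ := hy a
    exact ⟨u + v, add_mem hu hv, (totalDegree_add _ _).trans (max_le hu1 hv1), by
      rw [mul_add, map_add, map_add, hu2, hv2]⟩
  | smul r x _ hx => intro a; rw [smul_eq_mul, ← mul_assoc]; exact hx _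

variable (hg : Gen ℓ)
include hg

theorem nzd_full {T : Finset (Fin n)} {i : Fin n} (hi : i ∉ T) {y : MvPolynomial (Fin n) K}
    (h : y * P ℓ i Finset.univ ∈ I ℓ T (full (H := H))) : y ∈ I ℓ T (full (H := H)) :=
  nzd_P hg (fun _ _ => Finset.univ_nonempty) hi Finset.univ (mul_comm y _ ▸ h)

/-- Top components of the deformed ideal lie in the top ideal. -/
theorem comp_mem (T : Finset (Fin n)) : ∀ {y : MvPolynomial (Fin n) K}, y ∈ J ℓ κ T → ∀ {d : ℕ},
    y.totalDegree ≤ d → homogeneousComponent d y ∈ I ℓ T (full (H := H)) := by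
  classical
  induction T using Finset.induction_on with
  | empty =>
    intro y hy d _
    have : y = 0 := by simpa [J] using hy
    simp [this]
  | insert i T hi ih =>
    intro y hy d hd
    have hpos : 0 < Fintype.card H := Fintype.card_pos
    have hN : (P ℓ i (Finset.univ : Finset H)).IsHomogeneous (Fintype.card H) := isHomogeneous_P ℓ i _
    have hle : I ℓ T (full (H := H)) ≤ I ℓ (insert i T) (full (H := H)) :=
      Ideal.span_mono (Set.image_mono (by simp))
    suffices key : ∀ (m : ℕ) (a z : MvPolynomial (Fin n) K), z ∈ J ℓ κ T → a * F ℓ κ i + z = y →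
        a.totalDegree + Fintype.card H ≤ d + m →
          homogeneousComponent d y ∈ I ℓ (insert i T) (full (H := H)) by
      obtain ⟨a, z, hz, e⟩ := mem_J_insert.1 hy
      exact key (a.totalDegree + Fintype.card H) a z hz e (by omega)
    intro m
    induction m with
    | zero =>
      intro a z hz e hm
      have hzd : z.totalDegree ≤ d := by
        rw [show z = y - a * F ℓ κ i from by rw [← e]; ring]
        refine (totalDegree_sub _ _).trans (max_le hd ((totalDegree_mul _ _).trans ?_))
        have := totalDegree_F_le (ℓ := ℓ) (κ := κ) i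
        omega
      rw [← e, F, mul_sub, map_add, map_sub, hom_mul hN, if_pos (by omega), mul_comm _ (C (κ i)),
        homogeneousComponent_C_mul, comp_eq_zero (p := a) (d := d) (by omega), mul_zero, sub_zero]
      exact add_mem (Ideal.mul_mem_left _ _ (mem_I (M := full) (Finset.mem_insert_self i T))) (hle (ih hz hzd))
    | succ m ihm =>
      intro a z hz e hm
      by_cases hlt : a.totalDegree + Fintype.card H ≤ d + m
      · exact ihm a z hz e hlt
      have hE : a.totalDegree + Fintype.card H = d + m + 1 := by omega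
      have hzd : z.totalDegree ≤ d + m + 1 := by
        rw [show z = y - a * F ℓ κ i from by rw [← e]; ring]
        refine (totalDegree_sub _ _).trans (max_le (by omega) ((totalDegree_mul _ _).trans ?_))
        have := totalDegree_F_le (ℓ := ℓ) (κ := κ) i
        omega
      have h1 : homogeneousComponent a.totalDegree a * P ℓ i Finset.univ ∈ I ℓ T (full (H := H)) := by
        have h2 := congrArg (homogeneousComponent (d + m + 1)) e
        rw [F, mul_sub, map_add, map_sub, hom_mul hN, if_pos (by omega), mul_comm a (C (κ i)),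
          homogeneousComponent_C_mul, comp_eq_zero (p := a) (d := d + m + 1) (by omega), mul_zero, sub_zero,
          comp_eq_zero (p := y) (by omega), show d + m + 1 - Fintype.card H = a.totalDegree by omega] at h2
        rw [eq_neg_of_add_eq_zero_left h2]
        exact neg_mem (ih hz hzd)
      obtain ⟨w, hw, hw1, hw2⟩ := lift_mem (κ := κ) (nzd_full hg hi h1) a.totalDegree
      rw [comp_hom (homogeneousComponent_isHomogeneous _ a)] at hw2
      have he : (a - w) * F ℓ κ i + (z + w * F ℓ κ i) = y := by rw [← e]; ring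
      have hz' : z + w * F ℓ κ i ∈ J ℓ κ T := add_mem hz (Ideal.mul_mem_right _ _ hw)
      have ha1 : (a - w).totalDegree ≤ a.totalDegree := (totalDegree_sub _ _).trans (max_le le_rfl hw1)
      have ha2 : homogeneousComponent a.totalDegree (a - w) = 0 := by rw [map_sub, hw2, sub_self]
      rcases Nat.eq_zero_or_pos a.totalDegree with h0 | h0
      · have : a - w = 0 := eq_zero_of_deg_zero (by omega) (h0 ▸ ha2)
        rw [this, zero_mul, zero_add] at he
        exact hle (ih (he ▸ hz') hd)
      · obtain ⟨e', he'⟩ := Nat.exists_eq_succ_of_ne_zero h0.ne'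
        rw [he'] at ha1 ha2
        have := totalDegree_le_pred ha1 ha2
        exact ihm (a - w) _ hz' he (by omega)

/-- The deformed products form a regular sequence in every order. -/
theorem nzd_F {T : Finset (Fin n)} {i : Fin n} (hi : i ∉ T) {y : MvPolynomial (Fin n) K}
    (h : y * F ℓ κ i ∈ J ℓ κ T) : y ∈ J ℓ κ T := by
  classical
  have hpos : 0 < Fintype.card H := Fintype.card_pos
  have hN : (P ℓ i (Finset.univ : Finset H)).IsHomogeneous (Fintype.card H) := isHomogeneous_P ℓ i _
  generalize hd : y.totalDegree = d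
  induction d using Nat.strong_induction_on generalizing y with
  | _ d ih =>
    subst hd
    have h2 := comp_mem hg T h (d := y.totalDegree + Fintype.card H)
      ((totalDegree_mul _ _).trans (by have := totalDegree_F_le (ℓ := ℓ) (κ := κ) i; omega))
    rw [F, mul_sub, map_sub, hom_mul hN, if_pos (by omega), mul_comm y (C (κ i)), homogeneousComponent_C_mul,
      comp_eq_zero (p := y) (d := y.totalDegree + Fintype.card H) (by omega), mul_zero, sub_zero,
      Nat.add_sub_cancel] at h2
    obtain ⟨w, hw, hw1, hw2⟩ := lift_mem (κ := κ) (nzd_full hg hi h2) y.totalDegree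
    rw [comp_hom (homogeneousComponent_isHomogeneous _ y)] at hw2
    have ha1 : (y - w).totalDegree ≤ y.totalDegree := (totalDegree_sub _ _).trans (max_le le_rfl hw1)
    have ha2 : homogeneousComponent y.totalDegree (y - w) = 0 := by rw [map_sub, hw2, sub_self]
    have hy' : (y - w) * F ℓ κ i ∈ J ℓ κ T := by
      rw [sub_mul]
      exact sub_mem h (Ideal.mul_mem_right _ _ hw)
    suffices y - w ∈ J ℓ κ T by simpa using add_mem this hw
    rcases Nat.eq_zero_or_pos y.totalDegree with h0 | h0
    · rw [eq_zero_of_deg_zero (p := y - w) (by omega) (h0 ▸ ha2)]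
      exact zero_mem _
    · obtain ⟨e', he'⟩ := Nat.exists_eq_succ_of_ne_zero h0.ne'
      rw [he'] at ha1 ha2
      have := totalDegree_le_pred ha1 ha2
      exact ih _ (by omega) hy' rfl

variable [DecidableEq H]

theorem socle_full : Socle ℓ (full (n := n) (H := H)) := socle hg _ _ rfl fun _ => Finset.univ_nonempty

theorem high {y : MvPolynomial (Fin n) K} {d : ℕ} (hy : y.IsHomogeneous d) (hd : top (n := n) (H := H) < d) :
    y ∈ I ℓ Finset.univ (full (H := H)) :=
  (socle_full hg).high y d hy (by simpa [full, top] using hd)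

/-- Every class has a representative of degree at most the top one. -/
theorem exists_rep (y : MvPolynomial (Fin n) K) :
    ∃ y', y'.totalDegree ≤ top (n := n) (H := H) ∧ y - y' ∈ J ℓ κ Finset.univ := by
  generalize hd : y.totalDegree = d
  induction d using Nat.strong_induction_on generalizing y with
  | _ d ih =>
    subst hd
    by_cases h : y.totalDegree ≤ top (n := n) (H := H)
    · exact ⟨y, h, by simp⟩
    obtain ⟨w, hw, hw1, hw2⟩ := lift_mem (κ := κ)
      (high hg (homogeneousComponent_isHomogeneous y.totalDegree y) (by omega)) y.totalDegree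
    rw [comp_hom (homogeneousComponent_isHomogeneous _ y)] at hw2
    have ha1 : (y - w).totalDegree ≤ y.totalDegree := (totalDegree_sub _ _).trans (max_le le_rfl hw1)
    have ha2 : homogeneousComponent y.totalDegree (y - w) = 0 := by rw [map_sub, hw2, sub_self]
    obtain ⟨e', he'⟩ := Nat.exists_eq_succ_of_ne_zero (n := y.totalDegree) (by omega)
    rw [he'] at ha1 ha2
    have := totalDegree_le_pred ha1 ha2
    obtain ⟨y', hy', hy''⟩ := ih _ (show (y - w).totalDegree < y.totalDegree by omega) (y - w) rfl
    refine ⟨y', hy', ?_⟩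
    have := add_mem hy'' hw
    rwa [sub_right_comm, sub_add_cancel] at this

variable (c : Fin n → H)

/-- The top coefficient relative to the generator of the socle. -/
theorem exists_coef (y : MvPolynomial (Fin n) K) :
    ∃ μ : K, homogeneousComponent (top (n := n) (H := H)) y - μ • E ℓ full c ∈
      I ℓ Finset.univ (full (H := H)) := by
  refine (socle_full hg).soc c (fun _ => Finset.mem_univ _) _ fun l => high hg
    ((isHomogeneous_X K l).mul (homogeneousComponent_isHomogeneous _ y)) (by omega)

theorem coef_unique {μ : K} (h : μ • E ℓ full c ∈ I ℓ Finset.univ (full (H := H))) : μ = 0 := by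
  by_contra h0
  refine (socle_full hg).ne c (fun _ => Finset.mem_univ _) ?_
  have := Submodule.smul_of_tower_mem _ μ⁻¹ h
  rwa [smul_smul, inv_mul_cancel₀ h0, one_smul] at this

/-- The relation defining the functional. -/
def Rel (y : MvPolynomial (Fin n) K) (μ : K) : Prop :=
  ∃ y', y'.totalDegree ≤ top (n := n) (H := H) ∧ y - y' ∈ J ℓ κ Finset.univ ∧
    homogeneousComponent (top (n := n) (H := H)) y' - μ • E ℓ full c ∈ I ℓ Finset.univ (full (H := H))

theorem existsUnique_rel (y : MvPolynomial (Fin n) K) : ∃! μ, Rel (κ := κ) (ℓ := ℓ) c y μ := by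
  obtain ⟨y', hy', hy''⟩ := exists_rep (κ := κ) hg y
  obtain ⟨μ, hμ⟩ := exists_coef hg c y'
  refine ⟨μ, ⟨y', hy', hy'', hμ⟩, ?_⟩
  rintro ν ⟨z, hz, hz', hν⟩
  have h1 := comp_mem hg Finset.univ (y := y' - z) (by simpa using sub_mem hz' hy'')
    ((totalDegree_sub _ _).trans (max_le hy' hz))
  rw [map_sub] at h1
  refine eq_of_sub_eq_zero (coef_unique hg c (μ := ν - μ) ?_)
  rw [sub_smul]
  have := add_mem (sub_mem hμ hν) (neg_mem h1)
  convert! this using 1
  ring

/-- The functional. -/
def mu : MvPolynomial (Fin n) K →ₗ[K] K where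
  toFun y := Classical.choose (existsUnique_rel (κ := κ) hg c y)
  map_add' x y := by
    symm
    refine (Classical.choose_spec (existsUnique_rel (κ := κ) hg c (x + y))).2 _ ?_
    obtain ⟨x', hx1, hx2, hx3⟩ := (Classical.choose_spec (existsUnique_rel (κ := κ) hg c x)).1
    obtain ⟨y', hy1, hy2, hy3⟩ := (Classical.choose_spec (existsUnique_rel (κ := κ) hg c y)).1
    refine ⟨x' + y', (totalDegree_add _ _).trans (max_le hx1 hy1), ?_, ?_⟩
    · rw [add_sub_add_comm]; exact add_mem hx2 hy2
    · rw [map_add, add_smul, add_sub_add_comm]; exact add_mem hx3 hy3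
  map_smul' r y := by
    symm
    refine (Classical.choose_spec (existsUnique_rel (κ := κ) hg c (r • y))).2 _ ?_
    obtain ⟨y', hy1, hy2, hy3⟩ := (Classical.choose_spec (existsUnique_rel (κ := κ) hg c y)).1
    refine ⟨r • y', (totalDegree_smul_le _ _).trans hy1, ?_, ?_⟩
    · rw [← smul_sub]; exact Submodule.smul_of_tower_mem _ r hy2
    · rw [map_smul, RingHom.id_apply, smul_eq_mul, mul_smul, ← smul_sub]
      exact Submodule.smul_of_tower_mem _ r hy3

theorem mu_spec (y : MvPolynomial (Fin n) K) : Rel (κ := κ) (ℓ := ℓ) c y (mu (κ := κ) hg c y) :=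
  (Classical.choose_spec (existsUnique_rel (κ := κ) hg c y)).1

theorem mu_eq {y : MvPolynomial (Fin n) K} {μ : K} (h : Rel (κ := κ) (ℓ := ℓ) c y μ) :
    mu (κ := κ) hg c y = μ :=
  ((Classical.choose_spec (existsUnique_rel (κ := κ) hg c y)).2 μ h).symm

theorem mu_zero {y : MvPolynomial (Fin n) K} (hy : y ∈ J ℓ κ Finset.univ) : mu (κ := κ) hg c y = 0 :=
  mu_eq hg c ⟨0, by simp, by simpa using hy, by simp⟩

theorem exists_partner : ∀ (m d : ℕ) (t : MvPolynomial (Fin n) K), top (n := n) (H := H) - d = m →
    t.IsHomogeneous d → t ∉ I ℓ Finset.univ (full (H := H)) →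
    d ≤ top (n := n) (H := H) ∧ ∃ z : MvPolynomial (Fin n) K, z.IsHomogeneous (top (n := n) (H := H) - d) ∧
      ∃ μ : K, μ ≠ 0 ∧ z * t - μ • E ℓ full c ∈ I ℓ Finset.univ (full (H := H)) := by
  intro m
  induction m with
  | zero =>
    intro d t hm ht hni
    have hd : d ≤ top (n := n) (H := H) := by
      by_contra h
      exact hni (high hg ht (by omega))
    have hde : d = top (n := n) (H := H) := by omega
    subst hde
    obtain ⟨μ, hμ⟩ := exists_coef hg c t
    rw [comp_hom ht] at hμ
    refine ⟨le_rfl, 1, by simpa using isHomogeneous_one (Fin n) K, μ, fun h0 => hni ?_, by simpa using hμ⟩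
    simpa [h0] using hμ
  | succ m ih =>
    intro d t hm ht hni
    have hd : d < top (n := n) (H := H) := by omega
    by_cases hall : ∀ l, X l * t ∈ I ℓ Finset.univ (full (H := H))
    · exfalso
      obtain ⟨μ, hμ⟩ := (socle_full hg).soc c (fun _ => Finset.mem_univ _) t hall
      refine hni ?_
      have h2 := comp_mem_I hμ d
      rwa [map_sub, comp_hom ht, map_smul, homogeneousComponent_of_mem (isHomogeneous_E full c fun _ =>
        Finset.mem_univ _), if_neg (by simp [full, top] at hd ⊢; omega), smul_zero, sub_zero] at h2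
    push Not at hall
    obtain ⟨l, hl⟩ := hall
    obtain ⟨hd', z, hz, μ, hμ, hzt⟩ := ih (1 + d) (X l * t) (by omega) ((isHomogeneous_X K l).mul ht) hl
    refine ⟨hd.le, z * X l, ?_, μ, hμ, by rwa [mul_assoc]⟩
    rw [show top (n := n) (H := H) - d = top (n := n) (H := H) - (1 + d) + 1 by omega]
    exact hz.mul (isHomogeneous_X K l)

/-- The functional is nondegenerate. -/
theorem mu_nondeg {y : MvPolynomial (Fin n) K} (hy : y ∉ J ℓ κ Finset.univ) :
    ∃ z, mu (κ := κ) hg c (z * y) ≠ 0 := by
  classical
  have hex : ∃ d, ∃ y' : MvPolynomial (Fin n) K, y'.totalDegree = d ∧ y - y' ∈ J ℓ κ Finset.univ :=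
    ⟨_, y, rfl, by simp⟩
  obtain ⟨y', hdeg, hy'⟩ := Nat.find_spec hex
  have hmin : ∀ w : MvPolynomial (Fin n) K, y - w ∈ J ℓ κ Finset.univ → y'.totalDegree ≤ w.totalDegree :=
    fun w hw => hdeg ▸ Nat.find_min' hex ⟨w, rfl, hw⟩
  have hni : homogeneousComponent y'.totalDegree y' ∉ I ℓ Finset.univ (full (H := H)) := by
    intro h
    obtain ⟨w, hw, hw1, hw2⟩ := lift_mem (κ := κ) h y'.totalDegree
    rw [comp_hom (homogeneousComponent_isHomogeneous _ y')] at hw2
    have ha1 : (y' - w).totalDegree ≤ y'.totalDegree := (totalDegree_sub _ _).trans (max_le le_rfl hw1)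
    have ha2 : homogeneousComponent y'.totalDegree (y' - w) = 0 := by rw [map_sub, hw2, sub_self]
    have hyw : y - (y' - w) ∈ J ℓ κ Finset.univ := by
      rw [sub_sub_eq_add_sub, add_sub_right_comm]
      exact add_mem hy' hw
    rcases Nat.eq_zero_or_pos y'.totalDegree with h0 | h0
    · rw [eq_zero_of_deg_zero (p := y' - w) (by omega) (h0 ▸ ha2), sub_zero] at hyw
      exact hy hyw
    · obtain ⟨e', he'⟩ := Nat.exists_eq_succ_of_ne_zero h0.ne'
      rw [he'] at ha1 ha2
      have := totalDegree_le_pred ha1 ha2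
      have := hmin _ hyw
      omega
  obtain ⟨hd, z, hz, μ, hμ, hzt⟩ :=
    exists_partner hg c _ _ _ rfl (homogeneousComponent_isHomogeneous _ y') hni
  refine ⟨z, ?_⟩
  rw [mu_eq hg c (μ := μ) ⟨z * y', ?_, ?_, ?_⟩]
  · exact hμ
  · exact (totalDegree_mul _ _).trans (by have := hz.totalDegree_le; omega)
  · rw [← mul_sub]; exact Ideal.mul_mem_left _ _ hy'
  · rw [mul_comm z y', hom_mul hz, if_pos (by omega), show top (n := n) (H := H) -
      (top (n := n) (H := H) - y'.totalDegree) = y'.totalDegree by omega, mul_comm _ z]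
    exact hzt

/-- The functional is invariant under a linear automorphism fixing the deformed products and the
socle generator. -/
theorem mu_invariant (φ : MvPolynomial (Fin n) K →ₐ[K] MvPolynomial (Fin n) K)
    (hφ : ∀ d (p : MvPolynomial (Fin n) K), p.IsHomogeneous d → (φ p).IsHomogeneous d)
    (hP : ∀ j, φ (P ℓ j Finset.univ) = P ℓ j Finset.univ)
    (hE : φ (E ℓ full c) - E ℓ full c ∈ I ℓ Finset.univ (full (H := H)))
    (y : MvPolynomial (Fin n) K) : mu (κ := κ) hg c (φ y) = mu (κ := κ) hg c y := by
  obtain ⟨y', hy1, hy2, hy3⟩ := mu_spec (κ := κ) hg c y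
  have hcomp : ∀ (p : MvPolynomial (Fin n) K) (d : ℕ),
      homogeneousComponent d (φ p) = φ (homogeneousComponent d p) := by
    intro p d
    conv_lhs => rw [← sum_homogeneousComponent p, map_sum, map_sum]
    simp only [homogeneousComponent_of_mem (hφ _ _ (homogeneousComponent_isHomogeneous _ p))]
    rw [Finset.sum_ite_eq]
    split_ifs with h
    · rfl
    · rw [comp_eq_zero (p := p) (by simp at h; omega), map_zero]
  have hJ : ∀ x ∈ J ℓ κ Finset.univ, φ x ∈ J ℓ κ Finset.univ := by
    intro x hx
    induction hx using Submodule.span_induction with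
    | mem x hx =>
      obtain ⟨j, hj, rfl⟩ := hx
      rw [F, map_sub, hP, ← algebraMap_eq, AlgHom.commutes, algebraMap_eq]
      exact F_mem hj
    | zero => simp
    | add x y _ _ hx hy => rw [map_add]; exact add_mem hx hy
    | smul r x _ hx => rw [smul_eq_mul, map_mul]; exact Ideal.mul_mem_left _ _ hx
  have hI : ∀ x ∈ I ℓ Finset.univ (full (H := H)), φ x ∈ I ℓ Finset.univ (full (H := H)) := by
    intro x hx
    induction hx using Submodule.span_induction with
    | mem x hx =>
      obtain ⟨j, hj, rfl⟩ := hx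
      change φ (P ℓ j Finset.univ) ∈ _
      rw [hP]
      exact mem_I (M := full) hj
    | zero => simp
    | add x y _ _ hx hy => rw [map_add]; exact add_mem hx hy
    | smul r x _ hx => rw [smul_eq_mul, map_mul]; exact Ideal.mul_mem_left _ _ hx
  refine mu_eq hg c ⟨φ y', ?_, ?_, ?_⟩
  · rw [← sum_homogeneousComponent y', map_sum]
    refine (totalDegree_finset_sum _ _).trans (Finset.sup_le fun d hd => ?_)
    exact ((hφ d _ (homogeneousComponent_isHomogeneous d y')).totalDegree_le).trans (by simp at hd; omega)
  · rw [← map_sub]; exact hJ _ hy2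
  · rw [hcomp]
    have h1 := hI _ hy3
    rw [map_sub, map_smul] at h1
    have h2 := add_mem h1 (Submodule.smul_of_tower_mem _ (mu (κ := κ) hg c y) hE)
    rwa [smul_sub, sub_add_sub_cancel] at h2

theorem finite_quotient : FiniteDimensional K (MvPolynomial (Fin n) K ⧸ J ℓ κ Finset.univ) := by
  let g : restrictTotalDegree (Fin n) K (top (n := n) (H := H)) →ₗ[K]
      MvPolynomial (Fin n) K ⧸ J ℓ κ Finset.univ :=
    (Ideal.Quotient.mkₐ K _).toLinearMap ∘ₗ Submodule.subtype _
  haveI : FiniteDimensional K (restrictTotalDegree (Fin n) K (top (n := n) (H := H))) := inferInstance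
  refine Module.Finite.of_surjective g fun x => ?_
  obtain ⟨y, rfl⟩ := Ideal.Quotient.mk_surjective x
  obtain ⟨y', hy1, hy2⟩ := exists_rep (κ := κ) hg y
  exact ⟨⟨y', (mem_restrictTotalDegree _ _ _).2 hy1⟩, (Ideal.Quotient.eq.2 hy2).symm⟩

end

end Groth.Agent.H66.Watanabe
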