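import Groth.Agent.Lib.Goren.Rings
import Groth.Agent.Lib.Goren.Artin
import Mathlib.Algebra.Module.Injective
import Mathlib.LinearAlgebra.Dual.Lemmas
import Mathlib.RingTheory.Flat.FaithfullyFlat.Algebra
import Mathlib.RingTheory.Artinian.Module

/-!
Gorenstein rings: functionals, quotients by regular elements, descent.
-/

universe u v

open CategoryTheory IsLocalRing

namespace Groth.Agent.H66.Watanabe

theorem gorenstein_of_functional {K : Type v} [Field K] (Q : Type u) [CommRing Q] [Algebra K Q]
    [FiniteDimensional K Q] (μ : Q →ₗ[K] K) (h : ∀ x : Q, x ≠ 0 → ∃ z, μ (z * x) ≠ 0) :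
    LocCoh.IsGorensteinRing Q := by
  haveI : IsArtinianRing Q := IsArtinianRing.of_finite K Q
  let Ψ : Q →ₗ[K] Module.Dual K Q :=
    { toFun := fun r => μ.comp (LinearMap.mulRight K r)
      map_add' := fun x y => LinearMap.ext fun z => by simp [mul_add]
      map_smul' := fun c x => LinearMap.ext fun z => by simp }
  have hinj : Function.Injective Ψ := by
    rw [← LinearMap.ker_eq_bot, LinearMap.ker_eq_bot']
    intro x hx
    by_contra h0
    obtain ⟨z, hz⟩ := h x h0
    exact hz (LinearMap.congr_fun hx z)
  have hsurj : Function.Surjective Ψ :=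
    (LinearMap.injective_iff_surjective_of_finrank_eq_finrank Subspace.dual_finrank_eq.symm).1 hinj
  have hB : Module.Baer Q Q := by
    intro L g
    obtain ⟨Φ, hΦ⟩ := LinearMap.exists_extend (p := L.restrictScalars K) (μ.comp (g.restrictScalars K))
    obtain ⟨r, hr⟩ := hsurj Φ
    refine ⟨LinearMap.mulRight Q r, fun x hx => ?_⟩
    refine eq_of_sub_eq_zero (by_contra fun h0 => ?_)
    obtain ⟨z, hz⟩ := h _ h0
    refine hz ?_
    have h1 : μ (z * x * r) = μ (g ⟨z * x, L.mul_mem_left z hx⟩) := by
      have e1 := LinearMap.congr_fun hΦ ⟨z * x, L.mul_mem_left z hx⟩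
      rw [← hr] at e1
      exact e1
    rw [mul_sub, map_sub, LinearMap.mulRight_apply, ← mul_assoc, h1,
      show (⟨z * x, L.mul_mem_left z hx⟩ : L) = z • ⟨x, hx⟩ from rfl, map_smul, smul_eq_mul, sub_self]
  have := (Module.injective_iff_injective_object Q Q).mp hB.injective
  exact (Lib.Goren.Global.hasInjectiveDimensionLT_iff_gorenstein.mp ⟨1, inferInstance⟩).1

/-- Lifting the Gorenstein property through a regular element. -/
theorem gorenstein_of_surj {A B : Type u} [CommRing A] [CommRing B] [IsNoetherianRing A] (π : A →+* B)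
    (hπ : Function.Surjective π) {f : A} (hker : RingHom.ker π = Ideal.span {f}) (hf : IsSMulRegular A f)
    (p : Ideal A) [p.IsPrime] (hfp : f ∈ p)
    (hB : ∀ (q : Ideal B) [q.IsPrime], q.comap π = p → LocCoh.IsGorensteinLocalRing (Localization.AtPrime q)) :
    LocCoh.IsGorensteinLocalRing (Localization.AtPrime p) := by
  have hle : RingHom.ker π ≤ p := hker ▸ (Ideal.span_singleton_le_iff_mem p).2 hfp
  let P := p.map π
  haveI : P.IsPrime := Ideal.map_isPrime_of_surjective hπ hle
  have hP : P.comap π = p := by
    rw [Ideal.comap_map_of_surjective _ hπ, sup_eq_left.2]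
    exact hle
  have hBP := hB P hP
  haveI : IsNoetherianRing (Localization.AtPrime p) :=
    IsLocalization.isNoetherianRing p.primeCompl _ inferInstance
  set AQ := Localization.AtPrime p
  have hfm : algebraMap A AQ f ∈ maximalIdeal AQ :=
    (IsLocalization.AtPrime.to_map_mem_maximal_iff AQ p f).mpr hfp
  have hreg : IsSMulRegular AQ (algebraMap A AQ f) :=
    (RingTheory.Sequence.isWeaklyRegular_singleton_iff AQ _).mp
      (RingTheory.Sequence.IsWeaklyRegular.of_flat (S := AQ)
        ((RingTheory.Sequence.isWeaklyRegular_singleton_iff A f).mpr hf))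
  refine (Lib.Goren.Basic.isGorensteinLocalRing_quotient_iff hfm hreg).mpr ?_
  set I := Ideal.span ({f} : Set A)
  let e : A ⧸ I ≃+* B := (Ideal.quotEquivOfEq hker.symm).trans (RingHom.quotientKerEquivOfSurjective hπ)
  let P' : Ideal (A ⧸ I) := P.comap e.toRingHom
  haveI : P'.IsPrime := Ideal.comap_isPrime _ _
  have hP' : P'.comap (Ideal.Quotient.mk I) = p := by
    rw [Ideal.comap_comap]
    exact hP
  have hsub : Algebra.algebraMapSubmonoid (A ⧸ I) p.primeCompl = P'.primeCompl := by
    ext x
    constructor
    · rintro ⟨a, ha, rfl⟩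
      exact fun h => ha (hP' ▸ h)
    · intro hx
      obtain ⟨a, rfl⟩ := Ideal.Quotient.mk_surjective x
      exact ⟨a, fun h => hx (by rw [← hP'] at h; exact h), rfl⟩
  have : IsLocalization P'.primeCompl (AQ ⧸ I.map (algebraMap A AQ)) := hsub ▸
    (inferInstance : IsLocalization (Algebra.algebraMapSubmonoid (A ⧸ I) p.primeCompl)
      (AQ ⧸ I.map (algebraMap A AQ)))
  have hIspan : I.map (algebraMap A AQ) = Ideal.span {algebraMap A AQ f} := by
    rw [Ideal.map_span, Set.image_singleton]
  refine (Lib.Goren.Flat.isGorensteinLocalRing_ringEquiv_iff ?_).2 hBP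
  refine ((Ideal.quotEquivOfEq hIspan).symm.trans
    (IsLocalization.algEquiv P'.primeCompl (AQ ⧸ I.map (algebraMap A AQ))
      (Localization.AtPrime P')).toRingEquiv).trans ?_
  exact IsLocalization.ringEquivOfRingEquiv (M := P'.primeCompl) (T := P.primeCompl)
    (Localization.AtPrime P') (Localization.AtPrime P) e (by
      ext x
      constructor
      · rintro ⟨y, hy, rfl⟩; exact hy
      · exact fun hx => ⟨e.symm x, by simpa [P', Ideal.primeCompl] using hx, by simp⟩)

/-- Climbing back along a regular family. -/
theorem gorenstein_of_regular_family {A : Type u} [CommRing A] [IsNoetherianRing A] {ι : Type v} [Fintype ι]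
    (f : ι → A)
    (hreg : ∀ (T : Finset ι) (i : ι), i ∉ T → ∀ a : A,
      a * f i ∈ Ideal.span (f '' (T : Set ι)) → a ∈ Ideal.span (f '' (T : Set ι)))
    (hQ : LocCoh.IsGorensteinRing (A ⧸ Ideal.span (Set.range f)))
    (m : Ideal A) [m.IsPrime] (hm : ∀ i, f i ∈ m) :
    LocCoh.IsGorensteinLocalRing (Localization.AtPrime m) := by
  classical
  suffices key : ∀ (d : ℕ) (T : Finset ι), Fintype.card ι - T.card = d → ∀ (B : Type u) [CommRing B]
      [IsNoetherianRing B] (π : A →+* B), Function.Surjective π →
      RingHom.ker π = Ideal.span (f '' (T : Set ι)) → ∀ (p : Ideal B) [p.IsPrime], (∀ i, π (f i) ∈ p) →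
        LocCoh.IsGorensteinLocalRing (Localization.AtPrime p) from
    key _ ∅ rfl A (RingHom.id A) Function.surjective_id (by simp [RingHom.ker_eq_bot_iff_eq_zero]) m hm
  intro d
  induction d with
  | zero =>
    intro T hT B _ _ π hπ hker p _ _
    have hTu : T = Finset.univ := Finset.eq_univ_of_card _ (by have := T.card_le_univ; omega)
    rw [hTu, Finset.coe_univ, Set.image_univ] at hker
    haveI := Lib.Goren.Rings.isGorensteinRing_of_ringEquiv
      ((Ideal.quotEquivOfEq hker.symm).trans (RingHom.quotientKerEquivOfSurjective hπ))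
    exact LocCoh.IsGorensteinRing.isGorensteinLocalRing_localization p
  | succ d ih =>
    intro T hT B _ _ π hπ hker p _ hp
    obtain ⟨i, hi⟩ : ∃ i, i ∉ T := by
      by_contra! h
      rw [Finset.eq_univ_iff_forall.2 h, Finset.card_univ] at hT
      omega
    let J : Ideal B := Ideal.span {π (f i)}
    refine gorenstein_of_surj (Ideal.Quotient.mk J) Ideal.Quotient.mk_surjective Ideal.mk_ker ?_ p (hp i)
      fun q _ hq => ?_
    · refine IsSMulRegular.of_right_eq_zero_of_smul fun y hy => ?_
      obtain ⟨a, rfl⟩ := hπ y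
      rw [smul_eq_mul, ← map_mul, ← RingHom.mem_ker, hker, mul_comm] at hy
      rw [← RingHom.mem_ker, hker]
      exact hreg T i hi a hy
    · refine ih (insert i T) (by rw [Finset.card_insert_of_notMem hi]; omega) (B ⧸ J) ((Ideal.Quotient.mk J).comp π)
        (Ideal.Quotient.mk_surjective.comp hπ) ?_ q fun j => ?_
      · rw [← RingHom.comap_ker, Ideal.mk_ker, show J = (Ideal.span {f i}).map π by
          rw [Ideal.map_span, Set.image_singleton], Ideal.comap_map_of_surjective _ hπ, ← RingHom.ker_eq_comap_bot,
          hker, Finset.coe_insert, Set.image_insert_eq, Ideal.span_insert]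
      · have h := hp j
        rw [← hq] at h
        exact h

theorem gorensteinRing_of_maximal {A : Type u} [CommRing A] [IsNoetherianRing A]
    (h : ∀ (m : Ideal A) [m.IsMaximal], LocCoh.IsGorensteinLocalRing (Localization.AtPrime m)) :
    LocCoh.IsGorensteinRing A := by
  refine { isGorensteinLocalRing_localization := fun p _ => ?_ }
  obtain ⟨m, hm, hpm⟩ := p.exists_le_maximal Ideal.IsPrime.ne_top'
  haveI := h m
  let Q := p.map (algebraMap A (Localization.AtPrime m))
  have hd : Disjoint (m.primeCompl : Set A) (p : Set A) :=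
    Set.disjoint_left.2 fun x hx hxp => hx (hpm hxp)
  haveI : Q.IsPrime := IsLocalization.isPrime_of_isPrime_disjoint m.primeCompl _ p inferInstance hd
  have hQ : Q.comap (algebraMap A (Localization.AtPrime m)) = p :=
    IsLocalization.comap_map_of_isPrime_disjoint m.primeCompl _ inferInstance hd
  haveI := Lib.Goren.Global.isGorensteinLocalRing_localization Q
  haveI : IsLocalization.AtPrime (Localization.AtPrime Q) p := by
    have := IsLocalization.isLocalization_isLocalization_atPrime_isLocalization m.primeCompl
      (Localization.AtPrime Q) Q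
    simpa only [hQ] using this
  exact Lib.Goren.Flat.isGorensteinLocalRing_ringEquiv
    (IsLocalization.algEquiv p.primeCompl (Localization.AtPrime Q) (Localization.AtPrime p)).toRingEquiv

theorem gorensteinRing_of_faithfullyFlat (A B : Type u) [CommRing A] [CommRing B] [Algebra A B]
    [Module.FaithfullyFlat A B] [IsNoetherianRing A] [hB : LocCoh.IsGorensteinRing B] :
    LocCoh.IsGorensteinRing A := by
  refine { isGorensteinLocalRing_localization := fun p _ => ?_ }
  obtain ⟨⟨q, hq⟩, hqe⟩ := PrimeSpectrum.comap_surjective_of_faithfullyFlat (A := A) (B := B) ⟨p, inferInstance⟩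
  haveI := hq
  haveI : q.LiesOver p := ⟨(congrArg PrimeSpectrum.asIdeal hqe).symm⟩
  letI : Algebra (Localization.AtPrime p) (Localization.AtPrime q) :=
    Localization.AtPrime.algebraOfLiesOver p q
  haveI : IsLocalHom (algebraMap (Localization.AtPrime p) (Localization.AtPrime q)) := by
    rw [Localization.AtPrime.IsLiesOverAlgebra.algebraMap_eq]
    exact Localization.isLocalHom_localRingHom _ _ _ _
  haveI : IsNoetherianRing (Localization.AtPrime p) :=
    IsLocalization.isNoetherianRing p.primeCompl _ inferInstance
  haveI : IsNoetherianRing (Localization.AtPrime q) :=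
    IsLocalization.isNoetherianRing q.primeCompl _ inferInstance
  exact ((Lib.Goren.Flat.isGorensteinLocalRing_flat_iff (Localization.AtPrime p) (Localization.AtPrime q)).mp
    (hB.isGorensteinLocalRing_localization q)).1

end Groth.Agent.H66.Watanabe
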