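import Groth.Agent.H66.Watanabe.Deform
import Groth.Agent.H66.Watanabe.Gor
import Mathlib.Algebra.MvPolynomial.Funext
import Mathlib.RingTheory.Nullstellensatz
import Mathlib.RingTheory.Adjoin.Tower
import Mathlib.RingTheory.FiniteType
import Mathlib.LinearAlgebra.Matrix.GeneralLinearGroup.Defs
import Mathlib.LinearAlgebra.Matrix.MvPolynomial

/-!
Watanabe's theorem for finite subgroups of `SL_n` of invertible order.
-/

universe u v

open MvPolynomial

namespace Groth.Agent.H66.Watanabe

noncomputable section

section Action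

variable {K : Type u} [Field K] {n : ℕ} {G : Type u} [Group G] [Fintype G]

/-- The substitution attached to a matrix. -/
def sub (g : Matrix (Fin n) (Fin n) K) : MvPolynomial (Fin n) K →ₐ[K] MvPolynomial (Fin n) K :=
  aeval fun i => lin fun j => g j i

theorem sub_lin (g : Matrix (Fin n) (Fin n) K) (v : Fin n → K) : sub g (lin v) = lin (g.mulVec v) := by
  simp only [lin_apply, sub, map_sum, map_smul, aeval_X, Finset.smul_sum, smul_smul]
  rw [Finset.sum_comm]
  refine Finset.sum_congr rfl fun j _ => ?_
  rw [← Finset.sum_smul]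
  simp [Matrix.mulVec, dotProduct, mul_comm]

theorem sub_mul (g h : Matrix (Fin n) (Fin n) K) : (sub g).comp (sub h) = sub (g * h) := by
  refine MvPolynomial.algHom_ext fun i => ?_
  rw [AlgHom.comp_apply]
  simp only [sub, aeval_X]
  change sub g (lin fun j => h j i) = _
  rw [sub_lin]
  rfl

theorem sub_one : sub (1 : Matrix (Fin n) (Fin n) K) = AlgHom.id K _ := by
  refine MvPolynomial.algHom_ext fun i => ?_
  simp only [sub, aeval_X, AlgHom.id_apply]
  rw [show (fun j => (1 : Matrix (Fin n) (Fin n) K) j i) = Pi.single i 1 from funext fun j => by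
    simp [Matrix.one_apply, Pi.single_apply], lin_single]

theorem sub_isHomogeneous (g : Matrix (Fin n) (Fin n) K) (d : ℕ) {p : MvPolynomial (Fin n) K}
    (hp : p.IsHomogeneous d) : (sub g p).IsHomogeneous d := by
  have := hp.aeval (fun i => lin fun j => g j i) fun i => isHomogeneous_lin (fun j => g j i)
  simpa [sub] using this

variable (M : G →* Matrix (Fin n) (Fin n) K)

/-- The invariants. -/
def inv : Subalgebra K (MvPolynomial (Fin n) K) where
  carrier := {y | ∀ g, sub (M g) y = y}
  mul_mem' := fun ha hb g => by rw [map_mul, ha g, hb g]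
  add_mem' := fun ha hb g => by rw [map_add, ha g, hb g]
  algebraMap_mem' := fun c g => AlgHom.commutes _ c

theorem mem_inv {y : MvPolynomial (Fin n) K} : y ∈ inv M ↔ ∀ g, sub (M g) y = y := Iff.rfl

theorem sub_sub (g h : G) (y : MvPolynomial (Fin n) K) : sub (M g) (sub (M h) y) = sub (M (g * h)) y := by
  rw [map_mul, ← sub_mul]; rfl

theorem isIntegral_inv : Algebra.IsIntegral (inv M) (MvPolynomial (Fin n) K) := by
  refine ⟨fun y => ?_⟩
  let q : Polynomial (MvPolynomial (Fin n) K) := ∏ g : G, (Polynomial.X - Polynomial.C (sub (M g) y))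
  have hq : ∀ g, q.map (sub (M g) : MvPolynomial (Fin n) K →+* MvPolynomial (Fin n) K) = q := by
    intro g
    simp only [q, Polynomial.map_prod, Polynomial.map_sub, Polynomial.map_X, Polynomial.map_C, RingHom.coe_coe,
      sub_sub]
    exact Fintype.prod_equiv (Equiv.mulLeft g) _ _ fun h => rfl
  have hl : q ∈ Polynomial.lifts (algebraMap (inv M) (MvPolynomial (Fin n) K)) := by
    rw [Polynomial.lifts_iff_coeff_lifts]
    intro i
    refine ⟨⟨q.coeff i, fun g => ?_⟩, rfl⟩
    conv_rhs => rw [← hq g]
    rw [Polynomial.coeff_map]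
    rfl
  have hm : q.Monic := Polynomial.monic_prod_of_monic _ _ fun g _ => Polynomial.monic_X_sub_C _
  obtain ⟨r, hr, -, hrm⟩ := Polynomial.lifts_and_degree_eq_and_monic hl hm
  refine ⟨r, hrm, ?_⟩
  rw [Polynomial.eval₂_eq_eval_map, hr, Polynomial.eval_prod]
  exact Finset.prod_eq_zero (Finset.mem_univ 1) (by simp [sub_one])

theorem fg_inv : (inv M).FG := by
  haveI : IsScalarTower K (inv M) (MvPolynomial (Fin n) K) := inferInstance
  haveI := isIntegral_inv M
  haveI : Algebra.FiniteType (inv M) (MvPolynomial (Fin n) K) :=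
    Algebra.FiniteType.of_restrictScalars_finiteType K (inv M) (MvPolynomial (Fin n) K)
  haveI : Module.Finite (inv M) (MvPolynomial (Fin n) K) := Algebra.IsIntegral.finite
  rw [Subalgebra.fg_iff_finiteType]
  refine ⟨fg_of_fg_of_fg K (inv M) (MvPolynomial (Fin n) K) Algebra.FiniteType.out
    Module.Finite.fg_top ?_⟩
  exact Subtype.val_injective

/-- Averaging. -/
def avg : MvPolynomial (Fin n) K →ₗ[K] MvPolynomial (Fin n) K :=
  (Fintype.card G : K)⁻¹ • ∑ g : G, (sub (M g)).toLinearMap

theorem avg_apply (y : MvPolynomial (Fin n) K) : avg M y = (Fintype.card G : K)⁻¹ • ∑ g : G, sub (M g) y := by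
  simp [avg]

theorem avg_mem (y : MvPolynomial (Fin n) K) : avg M y ∈ inv M := by
  intro h
  rw [avg_apply, map_smul, map_sum]
  simp only [sub_sub]
  congr 1
  exact Fintype.sum_equiv (Equiv.mulLeft h) _ _ fun g => rfl

theorem avg_mul {a : MvPolynomial (Fin n) K} (ha : a ∈ inv M) (y : MvPolynomial (Fin n) K) :
    avg M (y * a) = avg M y * a := by
  simp only [avg_apply, map_mul, (mem_inv M).1 ha, ← Finset.sum_mul, smul_mul_assoc]

theorem avg_of_mem (hG : (Fintype.card G : K) ≠ 0) {a : MvPolynomial (Fin n) K} (ha : a ∈ inv M) :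
    avg M a = a := by
  rw [avg_apply]
  simp only [(mem_inv M).1 ha, Finset.sum_const, Finset.card_univ, ← Nat.cast_smul_eq_nsmul K, smul_smul]
  rw [inv_mul_cancel₀ hG, one_smul]

theorem exists_gen [Infinite K] (hM : ∀ g, (M g).det ≠ 0) :
    ∃ v : Fin n → Fin n → K, Gen fun i g => (M g).mulVec (v i) := by
  classical
  let q : (Fin n → G) → MvPolynomial (Fin n × Fin n) K := fun c =>
    (Matrix.of fun i l => ∑ j, C (M (c i) l j) * X (i, j)).det
  have hev : ∀ c (x : Fin n × Fin n → K),
      eval x (q c) = (Matrix.of fun i => (M (c i)).mulVec (fun j => x (i, j))).det := by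
    intro c x
    rw [show eval x (q c) = _ from RingHom.map_det (eval x) _]
    congr 1
    ext i l
    simp [Matrix.mulVec, dotProduct]
  have hne : ∀ c, q c ≠ 0 := by
    intro c h
    have h1 := hev c (fun p => ((M (c p.1))⁻¹).mulVec (Pi.single p.1 1) p.2)
    rw [h, map_zero] at h1
    simp only [Matrix.mulVec_mulVec, fun g => Matrix.mul_nonsing_inv (M g) (isUnit_iff_ne_zero.2 (hM g)),
      Matrix.one_mulVec] at h1
    rw [show (Matrix.of fun i => (Pi.single i (1 : K) : Fin n → K)) = 1 from by
      ext i j; simp [Matrix.one_apply, Pi.single_apply, eq_comm], Matrix.det_one] at h1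
    exact zero_ne_one h1
  obtain ⟨x, hx⟩ : ∃ x, eval x (∏ c, q c) ≠ 0 := by
    by_contra! h
    exact Finset.prod_ne_zero_iff.2 (fun c _ => hne c) (MvPolynomial.funext fun x => by rw [h x, map_zero])
  refine ⟨fun i j => x (i, j), fun c => ?_⟩
  rw [map_prod] at hx
  have hc := Finset.prod_ne_zero_iff.1 hx c (Finset.mem_univ _)
  rw [hev] at hc
  exact Matrix.linearIndependent_rows_of_isUnit ((Matrix.isUnit_iff_isUnit_det _).2 (isUnit_iff_ne_zero.2 hc))

theorem gorenstein_inv_closed [IsAlgClosed K] (hG : (Fintype.card G : K) ≠ 0) (hdet : ∀ g, (M g).det = 1) :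
    LocCoh.IsGorensteinRing (inv M) := by
  classical
  haveI := isIntegral_inv M
  haveI : Algebra.FiniteType K (inv M) := (Subalgebra.fg_iff_finiteType _).1 (fg_inv M)
  haveI : IsNoetherianRing (inv M) := Algebra.FiniteType.isNoetherianRing K _
  haveI : Nonempty G := ⟨1⟩
  obtain ⟨v, hg⟩ := exists_gen M fun g => by simp [hdet g]
  let ℓ : Fin n → G → Fin n → K := fun i g => (M g).mulVec (v i)
  have hg : Gen ℓ := hg
  have hlin : ∀ g i h, sub (M g) (lin (ℓ i h)) = lin (ℓ i (g * h)) := fun g i h => by
    simp only [sub_lin, ℓ, Matrix.mulVec_mulVec, map_mul]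
  have hP : ∀ g j, sub (M g) (P ℓ j Finset.univ) = P ℓ j Finset.univ := by
    intro g j
    simp only [P, map_prod, hlin]
    exact Fintype.prod_equiv (Equiv.mulLeft g) _ _ fun h => rfl
  let c : Fin n → G := fun _ => 1
  have hE : ∀ g, sub (M g) (E ℓ full c) - E ℓ full c ∈ I ℓ Finset.univ (full (H := G)) := by
    intro g
    have h1 : sub (M g) (E ℓ full c) = E ℓ full (fun _ => g) := by
      simp only [E, map_prod, P, hlin, full]
      refine Finset.prod_congr rfl fun j _ => Finset.prod_equiv (Equiv.mulLeft g) (fun h => ?_) fun h _ => rfl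
      simp [c]
    have h2 : D ℓ (fun _ => g) = D ℓ c := by
      have e : ∀ a : G, D ℓ (fun _ => a) = (Matrix.of v).det := fun a => by
        have : (Matrix.of fun i => ℓ i a) = Matrix.of v * (M a).transpose := by
          ext i l; simp [ℓ, Matrix.mul_apply, Matrix.mulVec, dotProduct, mul_comm]
        rw [D, this, Matrix.det_mul, Matrix.det_transpose, hdet a, mul_one]
      rw [e g, e 1]
    have h3 := Submodule.smul_of_tower_mem _ (D ℓ c)⁻¹
      (exchange (ℓ := ℓ) full c (fun _ => g) (fun _ => Finset.mem_univ _) fun _ => Finset.mem_univ _)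
    rwa [h2, ← smul_sub, smul_smul, inv_mul_cancel₀ (D_ne_zero hg c), one_smul, ← h1] at h3
  refine gorensteinRing_of_maximal fun m _ => ?_
  obtain ⟨m', hm', hm'm⟩ := Ideal.exists_ideal_over_maximal_of_isIntegral (S := MvPolynomial (Fin n) K) m
    (by rw [(RingHom.injective_iff_ker_eq_bot _).1 Subtype.val_injective]; exact bot_le)
  obtain ⟨x, rfl⟩ := (MvPolynomial.isMaximal_iff_eq_vanishingIdeal_singleton (K := K) (I := m')).1 hm'
  let κ : Fin n → K := fun j => eval x (P ℓ j Finset.univ)
  have hFinv : ∀ j, F ℓ κ j ∈ inv M := fun j g => by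
    rw [F, map_sub, hP, ← algebraMap_eq, AlgHom.commutes]
  let f : Fin n → inv M := fun j => ⟨F ℓ κ j, hFinv j⟩
  let JS : Finset (Fin n) → Ideal (inv M) := fun T => Ideal.span (f '' (T : Set (Fin n)))
  have hJS : ∀ T (a : inv M), a ∈ JS T ↔ (a : MvPolynomial (Fin n) K) ∈ J ℓ κ T := by
    intro T a
    have hle : ∀ b ∈ JS T, ((b : inv M) : MvPolynomial (Fin n) K) ∈ J ℓ κ T := by
      intro b hb
      induction hb using Submodule.span_induction with
      | mem y hy => obtain ⟨j, hj, rfl⟩ := hy; exact F_mem hj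
      | zero => simp
      | add y z _ _ hy hz => exact add_mem hy hz
      | smul r y _ hy => exact Ideal.mul_mem_left _ _ hy
    refine ⟨hle a, fun ha => ?_⟩
    suffices h : ∀ y ∈ J ℓ κ T, ∀ r : MvPolynomial (Fin n) K, (⟨avg M (r * y), avg_mem M _⟩ : inv M) ∈ JS T by
      have := h _ ha 1
      simpa only [one_mul, avg_of_mem M hG a.2, Subtype.coe_eta] using this
    intro y hy
    induction hy using Submodule.span_induction with
    | mem y hy =>
      obtain ⟨j, hj, rfl⟩ := hy
      intro r
      rw [show (⟨avg M (r * F ℓ κ j), avg_mem M _⟩ : inv M) = ⟨avg M r, avg_mem M r⟩ * f j from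
        Subtype.ext (avg_mul M (hFinv j) r)]
      exact Ideal.mul_mem_left _ _ (Ideal.subset_span ⟨j, hj, rfl⟩)
    | zero => intro r; simp [show (⟨(0 : MvPolynomial (Fin n) K), zero_mem _⟩ : inv M) = 0 from rfl]
    | add y z _ _ hy hz =>
      intro r
      convert! add_mem (hy r) (hz r) using 1
      exact Subtype.ext (by simp [mul_add])
    | smul s y _ hy => intro r; simp only [smul_eq_mul, ← mul_assoc]; exact hy _
  have hfm : ∀ j, f j ∈ m := by
    intro j
    rw [← hm'm, Ideal.mem_comap, MvPolynomial.mem_vanishingIdeal_singleton_iff]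
    change aeval x (F ℓ κ j) = 0
    rw [aeval_eq_eval, F, map_sub, eval_C, sub_self]
  -- the last quotient has a nondegenerate functional
  haveI := finite_quotient (κ := κ) hg
  let ψ : (inv M ⧸ JS Finset.univ) →ₗ[K] (MvPolynomial (Fin n) K ⧸ J ℓ κ Finset.univ) :=
    (Ideal.quotientMapₐ (R₁ := K) (J ℓ κ Finset.univ) (inv M).val fun a ha => (hJS _ a).1 ha).toLinearMap
  have hψ : Function.Injective ψ := by
    rw [← LinearMap.ker_eq_bot, LinearMap.ker_eq_bot']
    intro q hq
    obtain ⟨a, rfl⟩ := Ideal.Quotient.mk_surjective q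
    exact Ideal.Quotient.eq_zero_iff_mem.2 ((hJS _ a).2 (Ideal.Quotient.eq_zero_iff_mem.1 hq))
  haveI : FiniteDimensional K (inv M ⧸ JS Finset.univ) := FiniteDimensional.of_injective ψ hψ
  let μ := mu (κ := κ) hg c
  let ν : (inv M ⧸ JS Finset.univ) →ₗ[K] K :=
    (Submodule.liftQ ((J ℓ κ Finset.univ).restrictScalars K) μ fun y hy => mu_zero hg c hy).comp
      ((Submodule.Quotient.restrictScalarsEquiv K (J ℓ κ Finset.univ)).symm.toLinearMap.comp ψ)
  have hν : ∀ a : inv M, ν (Ideal.Quotient.mk _ a) = μ (a : MvPolynomial (Fin n) K) := fun a => rfl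
  have hQ : LocCoh.IsGorensteinRing (inv M ⧸ JS Finset.univ) := by
    refine gorenstein_of_functional _ ν fun q hq => ?_
    obtain ⟨a, rfl⟩ := Ideal.Quotient.mk_surjective q
    obtain ⟨z, hz⟩ := mu_nondeg (κ := κ) hg c (y := (a : MvPolynomial (Fin n) K))
      (fun h => hq (Ideal.Quotient.eq_zero_iff_mem.2 ((hJS _ a).2 h)))
    refine ⟨Ideal.Quotient.mk _ ⟨avg M z, avg_mem M z⟩, ?_⟩
    rw [← map_mul, hν, MulMemClass.coe_mul]
    change μ (avg M z * (a : MvPolynomial (Fin n) K)) ≠ 0
    rw [← avg_mul M a.2, avg_apply, map_smul, map_sum]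
    simp only [fun g => mu_invariant (κ := κ) hg c (sub (M g)) (fun d p hp => sub_isHomogeneous (M g) d hp)
      (hP g) (hE g) (z * (a : MvPolynomial (Fin n) K)), μ]
    rw [Finset.sum_const, Finset.card_univ, ← Nat.cast_smul_eq_nsmul K, smul_smul, inv_mul_cancel₀ hG, one_smul]
    exact hz
  refine gorenstein_of_regular_family f (fun T i hi a ha => ?_) ?_ m hfm
  · change a * f i ∈ JS T at ha
    rw [hJS, MulMemClass.coe_mul] at ha
    exact (hJS T a).2 (nzd_F hg hi ha)
  · have e : JS Finset.univ = Ideal.span (Set.range f) := by simp [JS]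
    rw [← e]
    exact hQ

end Action

section Descent

variable {k K : Type u} [Field k] [Field K] [Algebra k K] {n : ℕ} {G : Type u} [Group G] [Fintype G]

/-- Applying a linear form to the coefficients. -/
def coefMap (φ : K →ₗ[k] k) : MvPolynomial (Fin n) K →+ MvPolynomial (Fin n) k :=
  AddMonoidHom.mk' (fun y => Finset.sum y.support fun d => monomial d (φ (coeff d y))) fun x y => by
    ext d
    simp only [coeff_sum, coeff_monomial, Finset.sum_ite_eq', coeff_add, mem_support_iff, ne_eq]
    split_ifs <;> simp_all [← map_add]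

theorem coeff_coefMap (φ : K →ₗ[k] k) (y : MvPolynomial (Fin n) K) (d : Fin n →₀ ℕ) :
    coeff d (coefMap φ y) = φ (coeff d y) := by
  change coeff d (Finset.sum y.support fun d => monomial d (φ (coeff d y))) = _
  simp only [coeff_sum, coeff_monomial, Finset.sum_ite_eq', mem_support_iff, ne_eq]
  split_ifs with h <;> simp_all

theorem coefMap_map_mul (φ : K →ₗ[k] k) (r : MvPolynomial (Fin n) k) (y : MvPolynomial (Fin n) K) :
    coefMap φ (map (algebraMap k K) r * y) = r * coefMap φ y := by
  ext d
  simp only [coeff_coefMap, coeff_mul, coeff_map, map_sum, ← Algebra.smul_def, map_smul, smul_eq_mul]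

theorem coefMap_sub (φ : K →ₗ[k] k) (g : Matrix (Fin n) (Fin n) k) (y : MvPolynomial (Fin n) K) :
    coefMap φ (sub (g.map (algebraMap k K)) y) = sub g (coefMap φ y) := by
  have hmap : ∀ r : MvPolynomial (Fin n) k,
      sub (g.map (algebraMap k K)) (map (algebraMap k K) r) = map (algebraMap k K) (sub g r) := by
    intro r
    induction r using MvPolynomial.induction_on with
    | C a => simp [sub]
    | add p q hp hq => simp only [map_add, hp, hq]
    | mul_X p i hp =>
      simp only [map_mul, map_X, hp]
      congr 1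
      simp only [sub, aeval_X, lin_apply, map_sum, MvPolynomial.smul_eq_C_mul, map_mul, map_C, map_X, Matrix.map_apply]
  induction y using MvPolynomial.induction_on' with
  | monomial d a =>
    have h1 : monomial d a = map (algebraMap k K) (monomial d (1 : k)) * C a := by
      rw [map_monomial, map_one, mul_comm, C_mul_monomial, mul_one]
    have hC : ∀ a : K, coefMap φ (C a : MvPolynomial (Fin n) K) = C (φ a) := by
      intro a
      ext e
      rw [coeff_coefMap, coeff_C, coeff_C]
      split_ifs <;> simp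
    rw [h1, map_mul, hmap, ← algebraMap_eq, AlgHom.commutes, algebraMap_eq, coefMap_map_mul, coefMap_map_mul, hC,
      map_mul, ← algebraMap_eq, AlgHom.commutes]
  | add p q hp hq => simp only [map_add, hp, hq]

theorem gorenstein_inv (M : G →* Matrix (Fin n) (Fin n) k) (hG : (Fintype.card G : k) ≠ 0)
    (hdet : ∀ g, (M g).det = 1) : LocCoh.IsGorensteinRing (inv M) := by
  classical
  let L := AlgebraicClosure k
  let ML : G →* Matrix (Fin n) (Fin n) L :=
    (RingHom.mapMatrix (algebraMap k L)).toMonoidHom.comp M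
  have hdetL : ∀ g, (ML g).det = 1 := fun g => by
    change ((algebraMap k L).mapMatrix (M g)).det = 1
    rw [← RingHom.map_det, hdet g, map_one]
  have hGL : (Fintype.card G : L) ≠ 0 := by
    rw [← map_natCast (algebraMap k L)]
    exact (map_ne_zero _).2 hG
  haveI := gorenstein_inv_closed ML hGL hdetL
  have hcomm : ∀ g (r : MvPolynomial (Fin n) k),
      sub (ML g) (map (algebraMap k L) r) = map (algebraMap k L) (sub (M g) r) := by
    intro g r
    induction r using MvPolynomial.induction_on with
    | C a => simp [sub]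
    | add p q hp hq => simp only [map_add, hp, hq]
    | mul_X p i hp =>
      simp only [map_mul, map_X, hp]
      congr 1
      simp only [sub, aeval_X, lin_apply, map_sum, MvPolynomial.smul_eq_C_mul, map_mul, map_C, map_X]
      rfl
  let ι : inv M →+* inv ML :=
    RingHom.codRestrict ((map (algebraMap k L)).comp (inv M).toSubring.subtype) (inv ML).toSubring
      fun a g => by
        change sub (ML g) (map (algebraMap k L) (a : MvPolynomial (Fin n) k)) = _
        rw [hcomm, a.2 g]
        rfl
  letI : Algebra (inv M) (inv ML) := ι.toAlgebra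
  let b := Module.Basis.ofVectorSpace k L
  let e : Module.Basis.ofVectorSpaceIndex k L → inv ML := fun α => ⟨C (b α), fun g => AlgHom.commutes _ (b α)⟩
  have hC : ∀ α β, coefMap (n := n) (b.coord β) (C (b α) : MvPolynomial (Fin n) L) = if α = β then 1 else 0 := by
    intro α β
    ext d
    rw [coeff_coefMap, coeff_C]
    by_cases hd : (0 : Fin n →₀ ℕ) = d
    · subst hd
      by_cases h : α = β <;> simp [h]
    · by_cases h : α = β <;> simp [h, hd, coeff_one]
  have hli : LinearIndependent (inv M) e := by
    rw [linearIndependent_iff']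
    intro s c hc α hα
    have h1 := congrArg (fun z : inv ML => coefMap (b.coord α) (z : MvPolynomial (Fin n) L)) hc
    simp only [AddSubmonoidClass.coe_finsetSum, map_sum, ZeroMemClass.coe_zero, map_zero] at h1
    refine Subtype.ext (Eq.trans ?_ h1)
    rw [Finset.sum_eq_single α]
    · change _ = coefMap (b.coord α) (map (algebraMap k L) (c α : MvPolynomial (Fin n) k) * C (b α))
      rw [coefMap_map_mul, hC, if_pos rfl, mul_one]
    · intro β _ hβ
      change coefMap (b.coord α) (map (algebraMap k L) (c β : MvPolynomial (Fin n) k) * C (b β)) = 0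
      rw [coefMap_map_mul, hC, if_neg hβ, mul_zero]
    · exact fun h => absurd hα h
  have hsp : ⊤ ≤ Submodule.span (inv M) (Set.range e) := by
    rintro ⟨y, hy⟩ -
    let S := y.support.biUnion fun d => (b.repr (coeff d y)).support
    have hmem : ∀ α, coefMap (b.coord α) y ∈ inv M := fun α g => by
      rw [← coefMap_sub, show sub ((M g).map (algebraMap k L)) y = y from hy g]
    rw [show (⟨y, hy⟩ : inv ML) = ∑ α ∈ S, (⟨coefMap (b.coord α) y, hmem α⟩ : inv M) • e α from ?_]
    · exact Submodule.sum_mem _ fun α _ => Submodule.smul_mem _ _ (Submodule.subset_span ⟨α, rfl⟩)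
    refine Subtype.ext ?_
    rw [AddSubmonoidClass.coe_finsetSum]
    change y = ∑ α ∈ S, map (algebraMap k L) (coefMap (b.coord α) y) * C (b α)
    ext d
    simp only [coeff_sum, mul_comm _ (C (b _)), coeff_C_mul, coeff_map, coeff_coefMap, Module.Basis.coord_apply]
    by_cases hd : d ∈ y.support
    · conv_lhs => rw [← b.linearCombination_repr (coeff d y), Finsupp.linearCombination_apply, Finsupp.sum]
      refine (Finset.sum_subset (Finset.subset_biUnion_of_mem (fun d => (b.repr (coeff d y)).support) hd)
        fun α _ hα => ?_).trans (Finset.sum_congr rfl fun α _ => by rw [Algebra.smul_def, mul_comm])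
      rw [Finsupp.notMem_support_iff.1 hα, zero_smul]
    · simp [notMem_support_iff.1 hd]
  haveI : Module.Free (inv M) (inv ML) := Module.Free.of_basis (Module.Basis.mk hli hsp)
  haveI : Algebra.FiniteType k (inv M) := (Subalgebra.fg_iff_finiteType _).1 (fg_inv M)
  haveI : IsNoetherianRing (inv M) := Algebra.FiniteType.isNoetherianRing k _
  exact gorensteinRing_of_faithfullyFlat (inv M) (inv ML)

end Descent

end

end Groth.Agent.H66.Watanabe
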